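import Cfsg.Agent.H246.Dl.KFix_m3
import Cfsg.Agent.H139.Cusp.Theta
import Mathlib.LinearAlgebra.Matrix.Dual
import Mathlib.LinearAlgebra.Dual.Lemmas
import Mathlib.LinearAlgebra.Charpoly.ToMatrix
import Mathlib
import Cfsg.Agent.FastGrp
import Cfsg.Agent.Prune
set_option linter.all false

section
prune_inst 0x7ffce9f9eba89bffdf7f7e3ff6dccdf832818fffa6dff94bffe069bf0bdf031009c52b8d09f010fe0e82601410a87843fbffffffe26fdc7ffffd5df41ffbee4ff5f7b50851d488340fbc0ff603f0778e6f3ffffffffcffffffffffffffffffbeffbffbfeffff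

-- part: H53/HC/Orbit
section
set_option linter.all false
open scoped Cfsg.Agent.FastGrp

/-!
# Induced characters as sums over fixed points (hub H5, helper53)

`G` acts on the finite set `Ω`, `φ g ω` a function with `φ (x g x⁻¹) (x ω) = φ g ω`. `orbSum φ g = ∑ φ g ω` over the
fixed points `ω` of `g`. For a transitive action this is the function induced from `φ · ω₀` on the stabiliser of `ω₀`
(`orbSum_eq_indFun`), and Mackey's criterion reads: `orbSum φ` is irreducible if `φ · ω₀` is an irreducible character of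
the stabiliser and for every `ω ≠ ω₀` the functions `φ · ω₀` and `φ · ω` are orthogonal on some subgroup fixing both
(`isIrr_orbSum`).
-/

set_option autoImplicit false

open scoped ComplexConjugate
open Cfsg

namespace Cfsg.Agent.H53.HC

open Cfsg.Agent.OddOrderCharacters.Clifford Cfsg.Agent.Characters MulAction

universe u v

variable {G : Type u} [Group G] {Ω : Type v} [MulAction G Ω]

open Classical in
/-- the sum of `φ g ω` over the fixed points of `g` -/
noncomputable def orbSum [Fintype Ω] (φ : G → Ω → ℂ) : G → ℂ :=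
  fun g => ∑ ω : Ω, if g • ω = ω then φ g ω else 0

/-- the restriction of `φ` to a stabiliser -/
def stabFun (φ : G → Ω → ℂ) (ω : Ω) : stabilizer G ω → ℂ := fun t => φ (t : G) ω

theorem orbSum_one [Fintype Ω] (φ : G → Ω → ℂ) : orbSum φ 1 = ∑ ω : Ω, φ 1 ω := by
  classical
  unfold orbSum
  simp

theorem orbSum_eq_indFun [Fintype G] [Fintype Ω] [IsPretransitive G Ω] (φ : G → Ω → ℂ)
    (hφ : ∀ (x g : G) (ω : Ω), φ (x * g * x⁻¹) (x • ω) = φ g ω) (ω₀ : Ω) :
    orbSum φ = indFun (stabilizer G ω₀) (stabFun φ ω₀) := by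
  classical
  ext g
  rw [indFun_apply]
  unfold orbSum
  have h1 : ∀ x : G, extendByZero (stabilizer G ω₀) (stabFun φ ω₀) (x⁻¹ * g * x) =
      if g • (x • ω₀) = x • ω₀ then φ g (x • ω₀) else 0 := by
    intro x
    have hx : x⁻¹ * g * x ∈ stabilizer G ω₀ ↔ g • (x • ω₀) = x • ω₀ := by
      rw [mem_stabilizer_iff, mul_smul, mul_smul, inv_smul_eq_iff]
    split_ifs with h
    · rw [ext_apply_mem _ _ _ (hx.2 h)]
      unfold stabFun
      have := hφ x (x⁻¹ * g * x) ω₀
      rw [← this]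
      congr 1
      group
    · exact ext_apply_not_mem _ _ _ (fun h' => h (hx.1 h'))
  simp only [h1]
  -- fibre the sum over `x` by `x • ω₀`
  have h2 : ∑ x : G, (if g • (x • ω₀) = x • ω₀ then φ g (x • ω₀) else 0) =
      ∑ ω : Ω, ∑ x ∈ Finset.univ.filter (fun x : G => x • ω₀ = ω), (if g • ω = ω then φ g ω else 0) := by
    rw [← Finset.sum_fiberwise_of_maps_to (s := (Finset.univ : Finset G)) (t := (Finset.univ : Finset Ω))
      (g := fun x : G => x • ω₀) (fun _ _ => Finset.mem_univ _)]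
    refine Finset.sum_congr rfl fun ω _ => Finset.sum_congr rfl fun x hx => ?_
    rw [Finset.mem_filter] at hx
    rw [hx.2]
  rw [h2]
  have h3 : ∀ ω : Ω, (Finset.univ.filter (fun x : G => x • ω₀ = ω)).card = Nat.card (stabilizer G ω₀) := by
    intro ω
    obtain ⟨y, rfl⟩ := exists_smul_eq G ω₀ ω
    rw [Nat.card_eq_fintype_card, ← Fintype.card_coe]
    refine Fintype.card_congr ?_
    refine ⟨fun x => ⟨y⁻¹ * x.1, ?_⟩, fun s => ⟨y * s.1, ?_⟩, ?_, ?_⟩
    · have := x.2
      rw [Finset.mem_filter] at this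
      rw [mem_stabilizer_iff, mul_smul, this.2, inv_smul_smul]
    · rw [Finset.mem_filter]
      refine ⟨Finset.mem_univ _, ?_⟩
      rw [mul_smul, mem_stabilizer_iff.1 s.2]
    · intro x; simp
    · intro x; simp
  simp only [Finset.sum_const, h3, nsmul_eq_mul]
  rw [← Finset.mul_sum, ← mul_assoc, inv_mul_cancel₀ card_ne_zero', one_mul]

/-- **Mackey's criterion, orbit form.** -/
theorem isIrr_orbSum [Fintype G] [Fintype Ω] [IsPretransitive G Ω] (φ : G → Ω → ℂ)
    (hφ : ∀ (x g : G) (ω : Ω), φ (x * g * x⁻¹) (x • ω) = φ g ω) (ω₀ : Ω)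
    (hirr : IsIrrCharacter (stabilizer G ω₀) (stabFun φ ω₀))
    (h : ∀ ω : Ω, ω ≠ ω₀ → ∃ L : Subgroup G, L ≤ stabilizer G ω₀ ∧ L ≤ stabilizer G ω ∧
      ∀ [Fintype L], ∑ l : L, φ l ω₀ * conj (φ l ω) = 0) :
    IsIrrCharacter G (orbSum φ) := by
  rw [orbSum_eq_indFun φ hφ ω₀]
  refine isIrr_indFun _ hirr fun x hx => ?_
  obtain ⟨L, h1, h2, h3⟩ := h (x • ω₀) (fun e => hx (mem_stabilizer_iff.2 e))
  have h4 : ∀ l ∈ L, x⁻¹ * l * x ∈ stabilizer G ω₀ := by
    intro l hl
    have := mem_stabilizer_iff.1 (h2 hl)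
    rw [mem_stabilizer_iff, mul_smul, mul_smul, this, inv_smul_smul]
  refine ⟨L, h1, h4, fun {_} => ?_⟩
  rw [← h3]
  refine Finset.sum_congr rfl fun l _ => ?_
  unfold stabFun
  congr 2
  change φ (x⁻¹ * (l : G) * x) ω₀ = _
  rw [← hφ x (x⁻¹ * (l : G) * x) ω₀]
  congr 1
  group

end Cfsg.Agent.H53.HC
end

-- part: H53/HC/GLW
section
prune_inst 0x300000000000000000000000004010000
set_option linter.all false
open scoped Cfsg.Agent.FastGrp

/-!
# Class functions of `GL_n(K)` on the automorphisms of an `n`-dimensional space (hub H5, helper53)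

* `glE b : (W ≃ₗ[K] W) ≃* GL (Fin n) K` for a basis `b`;
* `cl Ψ f` : the value of the class function `Ψ` of `GL (Fin n) K` at the matrix of `f` (`cl_eq`, `cl_conj`);
* `radU D` : the automorphisms of `W` trivial on `D` and on `W / D`;
* `IsCusp Ψ` : the sums of `Ψ` over all `radU D`, `D` proper and non-zero, vanish (`IsCusp.sum_eq`);
* `flagChar ρ Ω Ψ` : `g ↦ ∑ Ψ (g | W)` over the `g`-invariant members `W` of the set `Ω` of subspaces;
* `isIrr_flagChar` : **irreducibility of `flagChar`** (Harish-Chandra induction from the stabiliser of a maximal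
  isotropic subspace).
-/

set_option autoImplicit false

open scoped ComplexConjugate
open Cfsg

namespace Cfsg.Agent.H53.HC

open Cfsg.Agent.OddOrderCharacters.Clifford Cfsg.Agent.Characters MulAction Module

universe u v w

section Sum

/-- summing a function of the image over a group -/
theorem sum_comp_hom {L U : Type*} [Group L] [Group U] [Fintype L] [Fintype U] (f : L →* U)
    (hf : Function.Surjective f) (F : U → ℂ) : ∑ l : L, F (f l) = (Nat.card f.ker : ℂ) * ∑ u : U, F u := by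
  classical
  rw [← Finset.sum_fiberwise_of_maps_to (s := (Finset.univ : Finset L)) (t := (Finset.univ : Finset U))
      (g := fun x : L => f x) (fun _ _ => Finset.mem_univ _), Finset.mul_sum]
  refine Finset.sum_congr rfl fun u _ => ?_
  rw [Finset.sum_congr rfl (g := fun _ => F u) (fun x hx => by rw [(Finset.mem_filter.1 hx).2]), Finset.sum_const,
    nsmul_eq_mul]
  congr 2
  obtain ⟨y, rfl⟩ := hf u
  rw [Nat.card_eq_fintype_card, ← Fintype.card_coe]
  refine Fintype.card_congr ⟨fun x => ⟨y⁻¹ * x.1, ?_⟩, fun s => ⟨y * s.1, ?_⟩, ?_, ?_⟩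
  · have := (Finset.mem_filter.1 x.2).2
    rw [MonoidHom.mem_ker, map_mul, map_inv, this, inv_mul_cancel]
  · rw [Finset.mem_filter]
    refine ⟨Finset.mem_univ _, ?_⟩
    rw [map_mul, (MonoidHom.mem_ker).1 s.2, mul_one]
  · intro x; simp
  · intro x; simp

end Sum

section Cl

variable {K : Type u} [Field K] {n : ℕ} {W : Type v} [AddCommGroup W] [Module K W] {W' : Type w} [AddCommGroup W']
  [Module K W']

/-- the group of automorphisms of `W` as a matrix group -/
noncomputable def glE (b : Basis (Fin n) K W) : (W ≃ₗ[K] W) ≃* GL (Fin n) K :=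
  (LinearMap.GeneralLinearGroup.generalLinearEquiv K W).symm.trans
    (Units.mapEquiv (LinearMap.toMatrixAlgEquiv b).toMulEquiv)

theorem coe_glE (b : Basis (Fin n) K W) (f : W ≃ₗ[K] W) :
    ((glE b f : GL (Fin n) K) : Matrix (Fin n) (Fin n) K) = LinearMap.toMatrix b b (f : W →ₗ[K] W) := by
  rfl

/-- the base change matrix -/
noncomputable def bcE (b b' : Basis (Fin n) K W) : GL (Fin n) K :=
  ⟨b.toMatrix b', b'.toMatrix b, b.toMatrix_mul_toMatrix_flip b', b'.toMatrix_mul_toMatrix_flip b⟩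

theorem glE_conj (b b' : Basis (Fin n) K W) (f : W ≃ₗ[K] W) :
    bcE b b' * glE b' f * (bcE b b')⁻¹ = glE b f := by
  rw [mul_inv_eq_iff_eq_mul]
  ext1
  rw [Units.val_mul, Units.val_mul, coe_glE, coe_glE]
  change b.toMatrix b' * LinearMap.toMatrix b' b' (f : W →ₗ[K] W) = LinearMap.toMatrix b b (f : W →ₗ[K] W) * b.toMatrix b'
  rw [basis_toMatrix_mul_linearMap_toMatrix, linearMap_toMatrix_mul_basis_toMatrix]

open Classical in
/-- the value of the class function `Ψ` of `GL (Fin n) K` at the automorphism `f` of `W` -/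
noncomputable def cl (Ψ : GL (Fin n) K → ℂ) (f : W ≃ₗ[K] W) : ℂ :=
  if h : Nonempty (Basis (Fin n) K W) then Ψ (glE h.some f) else 0

theorem cl_eq {Ψ : GL (Fin n) K → ℂ} (hΨ : IsClassFunction _ Ψ) (b : Basis (Fin n) K W) (f : W ≃ₗ[K] W) :
    cl Ψ f = Ψ (glE b f) := by
  classical
  unfold cl
  rw [dif_pos ⟨b⟩, ← glE_conj b (Nonempty.some ⟨b⟩) f, hΨ]

theorem glE_map (b : Basis (Fin n) K W) (e : W ≃ₗ[K] W') (f : W ≃ₗ[K] W) :
    glE (b.map e) ((e.symm.trans f).trans e) = glE b f := by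
  ext i j
  rw [coe_glE, coe_glE, LinearMap.toMatrix_apply, LinearMap.toMatrix_apply]
  simp

theorem cl_conj {Ψ : GL (Fin n) K → ℂ} (hΨ : IsClassFunction _ Ψ) (e : W ≃ₗ[K] W') (f : W ≃ₗ[K] W) :
    cl Ψ ((e.symm.trans f).trans e) = cl Ψ f := by
  classical
  by_cases h : Nonempty (Basis (Fin n) K W)
  · obtain ⟨b⟩ := h
    rw [cl_eq hΨ (b.map e), cl_eq hΨ b, glE_map]
  · have h' : ¬ Nonempty (Basis (Fin n) K W') := fun ⟨b⟩ => h ⟨b.map e.symm⟩
    unfold cl
    rw [dif_neg h, dif_neg h']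

theorem cl_one {Ψ : GL (Fin n) K → ℂ} (hΨ : IsClassFunction _ Ψ) (b : Basis (Fin n) K W) :
    cl Ψ (1 : W ≃ₗ[K] W) = Ψ 1 := by
  rw [cl_eq hΨ b, map_one]

/-- the automorphisms trivial on `D` and on `W / D` -/
def radU (D : Submodule K W) : Subgroup (W ≃ₗ[K] W) where
  carrier := {u | (∀ w, u w - w ∈ D) ∧ ∀ d ∈ D, u d = d}
  one_mem' := ⟨fun w => by simp, fun d _ => rfl⟩
  mul_mem' := by
    rintro u v ⟨hu, hu'⟩ ⟨hv, hv'⟩
    refine ⟨fun w => ?_, fun d hd => ?_⟩
    · have : (u * v) w - w = (u (v w) - v w) + (v w - w) := by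
        rw [LinearEquiv.mul_apply]; abel
      rw [this]
      exact D.add_mem (hu _) (hv _)
    · rw [LinearEquiv.mul_apply, hv' d hd, hu' d hd]
  inv_mem' := by
    rintro u ⟨hu, hu'⟩
    have key : ∀ d ∈ D, u⁻¹ d = d := by
      intro d hd
      have h1 : u⁻¹ (u d) = d := u.symm_apply_apply d
      rwa [hu' d hd] at h1
    refine ⟨fun w => ?_, key⟩
    have h1 := hu (u⁻¹ w)
    have h2 : u (u⁻¹ w) = w := u.apply_symm_apply w
    rw [h2] at h1
    have := D.neg_mem h1
    rwa [neg_sub] at this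

theorem mem_radU {D : Submodule K W} {u : W ≃ₗ[K] W} : u ∈ radU D ↔ (∀ w, u w - w ∈ D) ∧ ∀ d ∈ D, u d = d := Iff.rfl

/-- **cuspidality** of a class function of `GL_n(K)` -/
def IsCusp (Ψ : GL (Fin n) K → ℂ) : Prop :=
  ∀ D : Submodule K (Fin n → K), D ≠ ⊥ → D ≠ ⊤ → ∀ [Fintype (radU D)], ∑ u : radU D, cl Ψ (u : (Fin n → K) ≃ₗ[K] _) = 0

/-- cuspidality in an arbitrary space -/
theorem IsCusp.sum_eq {Ψ : GL (Fin n) K → ℂ} (h : IsCusp Ψ) (hΨ : IsClassFunction _ Ψ) (b : Basis (Fin n) K W)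
    (D : Submodule K W) (h0 : D ≠ ⊥) (h1 : D ≠ ⊤) [Fintype (radU D)] : ∑ u : radU D, cl Ψ (u : W ≃ₗ[K] W) = 0 := by
  classical
  let e : W ≃ₗ[K] (Fin n → K) := b.equivFun
  let D' : Submodule K (Fin n → K) := D.map (e : W →ₗ[K] (Fin n → K))
  have hD'0 : D' ≠ ⊥ := by
    intro h'
    apply h0
    rw [Submodule.eq_bot_iff] at h' ⊢
    intro x hx
    have := h' (e x) ⟨x, hx, rfl⟩
    exact (LinearEquiv.map_eq_zero_iff e).1 this
  have hD'1 : D' ≠ ⊤ := by
    intro h'
    apply h1
    rw [Submodule.eq_top_iff'] at h' ⊢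
    intro x
    obtain ⟨y, hy, hxy⟩ := h' (e x)
    rwa [← e.injective hxy]
  have key : ∀ u : W ≃ₗ[K] W, u ∈ radU D → (e.symm.trans u).trans e ∈ radU D' := by
    rintro u ⟨hu, hu'⟩
    refine ⟨fun w => ?_, ?_⟩
    · obtain ⟨x, rfl⟩ := e.surjective w
      have : ((e.symm.trans u).trans e) (e x) - e x = e (u x - x) := by simp
      rw [this]
      exact ⟨_, hu x, rfl⟩
    · rintro _ ⟨d, hd, rfl⟩
      change e (u (e.symm (e d))) = e d
      rw [e.symm_apply_apply, hu' d hd]
  have key' : ∀ u : (Fin n → K) ≃ₗ[K] (Fin n → K), u ∈ radU D' → (e.trans u).trans e.symm ∈ radU D := by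
    rintro u ⟨hu, hu'⟩
    refine ⟨fun w => ?_, fun d hd => ?_⟩
    · obtain ⟨y, hy, hxy⟩ := hu (e w)
      have hxy' : e y = u (e w) - e w := hxy
      have : ((e.trans u).trans e.symm) w - w = y := by
        apply e.injective
        rw [map_sub, hxy']
        simp
      rw [this]
      exact hy
    · change e.symm (u (e d)) = d
      rw [hu' (e d) ⟨d, hd, rfl⟩, e.symm_apply_apply]
  let E : radU D ≃ radU D' :=
    { toFun := fun u => ⟨_, key u.1 u.2⟩
      invFun := fun u => ⟨_, key' u.1 u.2⟩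
      left_inv := fun u => by
        apply Subtype.ext
        ext w
        simp
      right_inv := fun u => by
        apply Subtype.ext
        ext w
        simp }
  have : Fintype (radU D') := Fintype.ofEquiv _ E
  rw [← h D' hD'0 hD'1]
  refine Fintype.sum_equiv E _ _ fun u => ?_
  exact (cl_conj hΨ e u.1).symm

end Cl

end Cfsg.Agent.H53.HC
end

-- part: H53/HC/Flag
section
prune_inst 0x30606144760002080018001230205cd6e2000502004b000089600a400fc86e622d472e60b2f0011758328cd560310040000000000028000000200c00411900a080805200b348a10426009f000800000000000000300000000000000000000000000000000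
set_option linter.all false
open scoped Cfsg.Agent.FastGrp

/-!
# Harish-Chandra induction from the stabiliser of a subspace (hub H5, helper53)

`G` acts on the `K`-space `V` through `ρ`; `Ω` is a `G`-stable set of subspaces, `Ψ` a class function of `GL (Fin n) K`.
`flagChar ρ Ω Ψ g = ∑ Ψ (g | W)`, over the `g`-invariant `W ∈ Ω`.

`isIrr_flagChar` : if `G` is transitive on `Ω`, the members have dimension `n`, `Ψ` is a cuspidal irreducible character,
the stabiliser of `W₀ ∈ Ω` induces `GL(W₀)`, and for `W' ∈ Ω`, `W' ≠ W₀`: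
* `hmeet` : if `D = W₀ ⊓ W' ≠ 0`: every `1 + a`, `a : W₀ / D → D`, is induced by an element of `G` trivial on `W'`;
* `hopp` : if `W₀ ⊓ W' = 0`: the common stabiliser induces `GL(W₀)`, and in suitable bases the matrices on `W'` are the
  images under an automorphism `ι` of the matrices on `W₀`, `Ψ ∘ ι ≠ Ψ`;
then `flagChar ρ Ω Ψ` is an irreducible character of `G` (of degree `|Ω| Ψ(1)`: `flagChar_one`).
-/

set_option autoImplicit false

open scoped ComplexConjugate
open Cfsg

namespace Cfsg.Agent.H53.HC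

open Cfsg.Agent.OddOrderCharacters.Clifford Cfsg.Agent.Characters MulAction Module

universe u v w

variable {K : Type u} [Field K] {n : ℕ} {V : Type v} [AddCommGroup V] [Module K V] {G : Type w} [Group G]

/-- the restriction of an automorphism to an invariant subspace -/
def res (e : V ≃ₗ[K] V) (W : Submodule K V) (h : W.map (e : V →ₗ[K] V) = W) : W ≃ₗ[K] W := e.ofSubmodules W W h

@[simp] theorem coe_res (e : V ≃ₗ[K] V) (W : Submodule K V) (h : W.map (e : V →ₗ[K] V) = W) (w : W) :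
    (res e W h w : V) = e w := rfl

/-- the action of `G` on the set `Ω` of subspaces -/
@[reducible] def subAct (ρ : G →* (V ≃ₗ[K] V)) (Ω : Set (Submodule K V))
    (hΩ : ∀ g : G, ∀ W ∈ Ω, W.map (ρ g : V →ₗ[K] V) ∈ Ω) : MulAction G Ω where
  smul g W := ⟨W.1.map (ρ g : V →ₗ[K] V), hΩ g W.1 W.2⟩
  one_smul W := by
    apply Subtype.ext
    change W.1.map (ρ 1 : V →ₗ[K] V) = W.1
    rw [map_one]
    exact Submodule.map_id _
  mul_smul g h W := by
    apply Subtype.ext
    change W.1.map (ρ (g * h) : V →ₗ[K] V) = (W.1.map (ρ h : V →ₗ[K] V)).map (ρ g : V →ₗ[K] V)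
    rw [map_mul, ← Submodule.map_comp]
    rfl

open Classical in
/-- the local term -/
noncomputable def flagTerm (ρ : G →* (V ≃ₗ[K] V)) (Ψ : GL (Fin n) K → ℂ) (g : G) (W : Submodule K V) : ℂ :=
  if h : W.map (ρ g : V →ₗ[K] V) = W then cl Ψ (res (ρ g) W h) else 0

/-- **`g ↦ ∑ Ψ (g | W)`**, over the `g`-invariant members `W` of `Ω` -/
noncomputable def flagChar (ρ : G →* (V ≃ₗ[K] V)) (Ω : Set (Submodule K V)) [Fintype Ω] (Ψ : GL (Fin n) K → ℂ) :
    G → ℂ := fun g => ∑ W : Ω, flagTerm ρ Ψ g W.1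

theorem flagTerm_of (ρ : G →* (V ≃ₗ[K] V)) (Ψ : GL (Fin n) K → ℂ) {g : G} {W : Submodule K V}
    (h : W.map (ρ g : V →ₗ[K] V) = W) : flagTerm ρ Ψ g W = cl Ψ (res (ρ g) W h) := by
  unfold flagTerm
  rw [dif_pos h]

theorem map_mul_apply (ρ : G →* (V ≃ₗ[K] V)) (g h : G) (W : Submodule K V) :
    W.map (ρ (g * h) : V →ₗ[K] V) = (W.map (ρ h : V →ₗ[K] V)).map (ρ g : V →ₗ[K] V) := by
  rw [map_mul, ← Submodule.map_comp]
  rfl

theorem map_inv_of (ρ : G →* (V ≃ₗ[K] V)) {g : G} {W : Submodule K V} (h : W.map (ρ g : V →ₗ[K] V) = W) :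
    W.map (ρ g⁻¹ : V →ₗ[K] V) = W := by
  conv_lhs => rw [← h]
  rw [← map_mul_apply, inv_mul_cancel, map_one]
  exact Submodule.map_id _

theorem map_mul_of (ρ : G →* (V ≃ₗ[K] V)) {g g' : G} {W : Submodule K V} (h : W.map (ρ g : V →ₗ[K] V) = W)
    (h' : W.map (ρ g' : V →ₗ[K] V) = W) : W.map (ρ (g * g') : V →ₗ[K] V) = W := by
  rw [map_mul_apply, h', h]

theorem flagTerm_conj (ρ : G →* (V ≃ₗ[K] V)) {Ψ : GL (Fin n) K → ℂ} (hΨ : IsClassFunction _ Ψ) (x g : G)
    (W : Submodule K V) : flagTerm ρ Ψ (x * g * x⁻¹) (W.map (ρ x : V →ₗ[K] V)) = flagTerm ρ Ψ g W := by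
  classical
  have e0 : (W.map (ρ x : V →ₗ[K] V)).map (ρ (x * g * x⁻¹) : V →ₗ[K] V) = (W.map (ρ g : V →ₗ[K] V)).map
      (ρ x : V →ₗ[K] V) := by
    rw [← map_mul_apply, ← map_mul_apply]
    congr 3
    group
  by_cases h : W.map (ρ g : V →ₗ[K] V) = W
  · have h' : (W.map (ρ x : V →ₗ[K] V)).map (ρ (x * g * x⁻¹) : V →ₗ[K] V) = W.map (ρ x : V →ₗ[K] V) := by
      rw [e0, h]
    rw [flagTerm_of ρ Ψ h, flagTerm_of ρ Ψ h', ← cl_conj hΨ ((ρ x).submoduleMap W) (res (ρ g) W h)]
    congr 1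
    ext ⟨_, w, hw, rfl⟩
    have e1 : ((ρ x).submoduleMap W).symm ⟨(ρ x : V →ₗ[K] V) w, w, hw, rfl⟩ = ⟨w, hw⟩ := by
      rw [LinearEquiv.symm_apply_eq]
      rfl
    rw [coe_res, LinearEquiv.trans_apply, LinearEquiv.trans_apply, e1]
    change (ρ (x * g * x⁻¹)) (ρ x w) = ρ x (ρ g w)
    rw [← LinearEquiv.mul_apply, ← LinearEquiv.mul_apply, ← map_mul, ← map_mul]
    congr 2
    group
  · have h' : ¬ (W.map (ρ x : V →ₗ[K] V)).map (ρ (x * g * x⁻¹) : V →ₗ[K] V) = W.map (ρ x : V →ₗ[K] V) := by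
      rw [e0]
      intro h'
      exact h (Submodule.map_injective_of_injective (ρ x).injective h')
    unfold flagTerm
    rw [dif_neg h, dif_neg h']

section Char

variable [Fintype G] (ρ : G →* (V ≃ₗ[K] V)) (Ω : Set (Submodule K V)) [Fintype Ω]

theorem flagChar_eq_orbSum (hΩ : ∀ g : G, ∀ W ∈ Ω, W.map (ρ g : V →ₗ[K] V) ∈ Ω) (Ψ : GL (Fin n) K → ℂ) :
    flagChar ρ Ω Ψ = letI := subAct ρ Ω hΩ; orbSum (fun g (W : Ω) => flagTerm ρ Ψ g W.1) := by
  classical
  let _ := subAct ρ Ω hΩ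
  ext g
  unfold flagChar orbSum
  refine Finset.sum_congr rfl fun W _ => ?_
  split_ifs with h
  · rfl
  · unfold flagTerm
    rw [dif_neg]
    intro h'
    exact h (Subtype.ext h')

/-- the stabiliser -/
def stabW (W : Submodule K V) : Subgroup G where
  carrier := {g | W.map (ρ g : V →ₗ[K] V) = W}
  one_mem' := by
    change W.map (ρ 1 : V →ₗ[K] V) = W
    rw [map_one]
    exact Submodule.map_id _
  mul_mem' := fun h h' => map_mul_of ρ h h'
  inv_mem' := fun h => map_inv_of ρ h

omit [Fintype G] in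
theorem mem_stabW {W : Submodule K V} {g : G} : g ∈ stabW ρ W ↔ W.map (ρ g : V →ₗ[K] V) = W := Iff.rfl

/-- the restriction homomorphism -/
def resHom (W : Submodule K V) : stabW ρ W →* (W ≃ₗ[K] W) where
  toFun g := res (ρ g) W g.2
  map_one' := by
    ext w
    change (ρ 1) (w : V) = w
    rw [map_one]
    rfl
  map_mul' g h := by
    ext w
    change (ρ ((g : G) * (h : G))) (w : V) = ρ (g : G) (ρ (h : G) w)
    rw [map_mul]
    rfl

omit [Fintype G] in
theorem coe_resHom {W : Submodule K V} (g : stabW ρ W) (w : W) : (resHom ρ W g w : V) = ρ (g : G) w := rfl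

omit [Fintype G] in
theorem map_eq_of_le [FiniteDimensional K V] {W : Submodule K V} {g : G} (h : ∀ w ∈ W, ρ g w ∈ W) :
    W.map (ρ g : V →ₗ[K] V) = W := by
  apply Submodule.eq_of_le_of_finrank_eq
  · rintro _ ⟨w, hw, rfl⟩
    exact h w hw
  · exact LinearEquiv.finrank_map_eq (ρ g) W

omit [Fintype G] in
/-- the degree -/
theorem flagChar_one {Ψ : GL (Fin n) K → ℂ} (hΨ : IsClassFunction _ Ψ) [FiniteDimensional K V]
    (hdim : ∀ W ∈ Ω, finrank K W = n) : flagChar ρ Ω Ψ 1 = (Nat.card Ω : ℂ) * Ψ 1 := by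
  classical
  unfold flagChar
  have h1 : ∀ W : Ω, flagTerm ρ Ψ 1 W.1 = Ψ 1 := by
    intro W
    have h : W.1.map (ρ 1 : V →ₗ[K] V) = W.1 := by rw [map_one]; exact Submodule.map_id _
    rw [flagTerm_of ρ Ψ h]
    have e2 : res (ρ 1) W.1 h = 1 := by
      ext w
      rw [coe_res, map_one]
      rfl
    rw [e2, cl_one hΨ (finBasisOfFinrankEq K W.1 (hdim W.1 W.2))]
  rw [Finset.sum_congr rfl fun W _ => h1 W, Finset.sum_const, Finset.card_univ, ← Nat.card_eq_fintype_card,
    nsmul_eq_mul]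

omit [Fintype G] in
/-- the value at a scalar -/
theorem flagChar_scalar {Ψ : GL (Fin n) K → ℂ} (hΨ : IsClassFunction _ Ψ) [FiniteDimensional K V]
    (hdim : ∀ W ∈ Ω, finrank K W = n) {z : G} {c : Kˣ} (hz : ∀ v, ρ z v = (c : K) • v)
    (hc : Ψ (Matrix.GeneralLinearGroup.scalar (Fin n) c) = Ψ 1) : flagChar ρ Ω Ψ z = flagChar ρ Ω Ψ 1 := by
  classical
  rw [flagChar_one ρ Ω hΨ hdim]
  unfold flagChar
  have h1 : ∀ W : Ω, flagTerm ρ Ψ z W.1 = Ψ 1 := by
    intro W
    have h : W.1.map (ρ z : V →ₗ[K] V) = W.1 := map_eq_of_le ρ fun w hw => by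
      rw [hz]; exact W.1.smul_mem _ hw
    rw [flagTerm_of ρ Ψ h, cl_eq hΨ (finBasisOfFinrankEq K W.1 (hdim W.1 W.2)), ← hc]
    congr 1
    ext i j
    rw [coe_glE, LinearMap.toMatrix_apply]
    have e2 : (res (ρ z) W.1 h : W.1 →ₗ[K] W.1) (finBasisOfFinrankEq K W.1 (hdim W.1 W.2) j) =
        (c : K) • (finBasisOfFinrankEq K W.1 (hdim W.1 W.2) j) := Subtype.ext (hz _)
    rw [e2, map_smul, Finsupp.smul_apply, Basis.repr_self, smul_eq_mul, Matrix.GeneralLinearGroup.coe_scalar,
      Matrix.scalar_apply, Matrix.diagonal_apply, Finsupp.single_apply]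
    by_cases hij : i = j
    · simp [hij]
    · rw [if_neg hij, if_neg (Ne.symm hij), mul_zero]
  rw [Finset.sum_congr rfl fun W _ => h1 W, Finset.sum_const, Finset.card_univ, ← Nat.card_eq_fintype_card,
    nsmul_eq_mul]

end Char

end Cfsg.Agent.H53.HC
end

-- part: H139/Cusp/Bridge
section
prune_inst 0x30006104740002000000000022005cc2e2000002004b0000210008000d88a4438d400e20b290011350b000c44838004000000000020000000a20040041180080008000001040000002008e000000000000000000300000000000000000000000000000000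
set_option linter.all false
open scoped Cfsg.Agent.FastGrp

-- part: H139/Cusp/Dual
section
/-!
# The cuspidal class functions under duality, semilinear maps and restriction
-/

set_option autoImplicit false

open Polynomial Cfsg
open scoped ComplexConjugate

namespace Cfsg.Agent.H139.Cusp

universe u u' v v' w w'

attribute [local instance] fintypeHom fintypeSub finite_quot

section restrict

variable {F : Type u} [Field F] (L : Type w) [Field L] [Algebra F L] (θ : L →*₀ ℂ)
variable {V : Type v} [AddCommGroup V] [Module F V] [Finite V]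

end restrict

/-! ### duality -/

section dual

variable {F : Type u} [Field F] {V : Type v} [AddCommGroup V] [Module F V] [Module.Finite F V]

variable [Finite F] (L : Type w) [Field L] [Algebra F L] (θ : L →*₀ ℂ)

end dual

section pairing

variable {F : Type u} [Field F] [Finite F] {L : Type w} [Field L] [Finite L] [Algebra F L]
variable {V : Type v} [AddCommGroup V] [Module F V] [Finite V]
variable {V' : Type v'} [AddCommGroup V'] [Module F V'] [Finite V']

end pairing

/-! ### semilinear maps -/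

section semilinear

variable {F : Type u} [Field F] {F' : Type u'} [Field F'] (σ : F ≃+* F')
variable {V : Type v} [AddCommGroup V] [Module F V] [Finite V]
variable {V' : Type v'} [AddCommGroup V'] [Module F' V'] [Finite V']
variable (e : V ≃+ V') (he : ∀ (c : F) (v : V), e (c • v) = σ c • e v)
variable {g : V →ₗ[F] V} {g' : V' →ₗ[F'] V'} (hg : ∀ v, g' (e v) = e (g v))

include he hg

theorem charpoly_semilinear : g'.charpoly = g.charpoly.map (σ : F →+* F') := by
  classical
  let hm : Module F V' := Module.compHom V' (σ : F →+* F')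
  have hsm : ∀ (c : F) (x : V'), c • x = σ c • x := fun _ _ => rfl
  let x : V ≃ₗ[F] V' := { e with map_smul' := fun c v => he c v }
  let b := Module.finBasis F V
  let b' : Module.Basis _ F' V' := (b.map x).mapCoeffs σ (fun c x => rfl)
  have hb' : ∀ i, b' i = e (b i) := by
    intro i
    exact ((b.map x).mapCoeffs_apply σ (fun c x => rfl) i).trans (Module.Basis.map_apply _ _ _)
  have h1 : LinearMap.toMatrix b' b' g' = (LinearMap.toMatrix b b g).map σ := by
    ext i j
    rw [Matrix.map_apply, LinearMap.toMatrix_apply, LinearMap.toMatrix_apply, hb', hg]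
    have h2 : e (g (b j)) = ∑ k, σ (b.repr (g (b j)) k) • b' k := by
      conv_lhs => rw [← b.sum_repr (g (b j))]
      rw [map_sum]
      refine Finset.sum_congr rfl fun k _ => ?_
      rw [he, hb']
    rw [h2, map_sum, Finsupp.finsetSum_apply]
    rw [Finset.sum_eq_single i]
    · rw [map_smul, Finsupp.smul_apply, Module.Basis.repr_self, Finsupp.single_eq_same, smul_eq_mul, mul_one]
    · intro k _ hk
      rw [map_smul, Finsupp.smul_apply, Module.Basis.repr_self, Finsupp.single_eq_of_ne hk.symm, smul_zero]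
    · intro h
      exact absurd (Finset.mem_univ _) h
  rw [← LinearMap.charpoly_toMatrix g b, ← LinearMap.charpoly_toMatrix g' b', h1]
  exact Matrix.charpoly_map _ (σ : F →+* F')

omit [Finite V] [Finite V'] in
theorem aeval_semilinear (f : F[X]) (v : V) : aeval g' (f.map (σ : F →+* F')) (e v) = e (aeval g f v) := by
  induction f using Polynomial.induction_on' with
  | add p q hp hq =>
    rw [Polynomial.map_add, map_add, map_add, LinearMap.add_apply, LinearMap.add_apply, hp, hq, map_add]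
  | monomial n a =>
    rw [map_monomial, aeval_monomial, aeval_monomial, Module.End.mul_apply, Module.algebraMap_end_apply,
      Module.End.mul_apply, Module.algebraMap_end_apply, he]
    congr 1
    induction n with
    | zero => rfl
    | succ n ih => rw [pow_succ', pow_succ', Module.End.mul_apply, Module.End.mul_apply, ih, hg]

theorem finrank_ker_semilinear [Finite F] (f : F[X]) :
    Module.finrank F' (LinearMap.ker (aeval g' (f.map (σ : F →+* F')))) =
      Module.finrank F (LinearMap.ker (aeval g f)) := by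
  have : Finite F' := Finite.of_equiv F σ.toEquiv
  have hcard : Nat.card F' = Nat.card F := Nat.card_congr σ.toEquiv.symm
  have h1 : Nat.card (LinearMap.ker (aeval g' (f.map (σ : F →+* F')))) = Nat.card (LinearMap.ker (aeval g f)) := by
    refine Nat.card_congr (e.toEquiv.subtypeEquiv fun v => ?_).symm
    show v ∈ LinearMap.ker (aeval g f) ↔ e v ∈ LinearMap.ker (aeval g' (f.map (σ : F →+* F')))
    rw [LinearMap.mem_ker, LinearMap.mem_ker, aeval_semilinear σ e he hg, e.map_eq_zero_iff]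
  rw [Module.natCard_eq_pow_finrank (K := F) (V := LinearMap.ker (aeval g f)),
    Module.natCard_eq_pow_finrank (K := F') (V := LinearMap.ker (aeval g' (f.map (σ : F →+* F')))),
    hcard] at h1
  exact Nat.pow_right_injective (Finite.one_lt_card (α := F)) h1

omit he hg in
theorem finrank_semilinear [Finite F] (σ : F ≃+* F') (e : V ≃+ V') : Module.finrank F' V' = Module.finrank F V := by
  have : Finite F' := Finite.of_equiv F σ.toEquiv
  have hcard : Nat.card F' = Nat.card F := Nat.card_congr σ.toEquiv.symm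
  have h1 : Nat.card V' = Nat.card V := Nat.card_congr e.toEquiv.symm
  rw [Module.natCard_eq_pow_finrank (K := F) (V := V),
    Module.natCard_eq_pow_finrank (K := F') (V := V'), hcard] at h1
  exact Nat.pow_right_injective (Finite.one_lt_card (α := F)) h1

variable {L : Type w} [Field L] [Algebra F L] {L' : Type w'} [Field L'] [Algebra F' L']
variable (τ : L ≃+* L') (hτ : ∀ c : F, τ (algebraMap F L c) = algebraMap F' L' (σ c))
variable {θ : L →*₀ ℂ} {θ' : L' →*₀ ℂ} (hθ : ∀ x, θ' (τ x) = θ x)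

include hτ hθ

omit he hg [Finite V] [Finite V'] in
theorem lb_semilinear [Finite F] [Finite L] {f : F[X]} (hirr : Irreducible f)
    (hd : f.natDegree ∣ Module.finrank F L) : lb L' θ' (f.map (σ : F →+* F')) = lb L θ f := by
  have h1 := splits_of_natDegree_dvd (L := L) hirr hd
  have h2 : (f.map (σ : F →+* F')).map (algebraMap F' L') = (f.map (algebraMap F L)).map (τ : L →+* L') := by
    rw [Polynomial.map_map, Polynomial.map_map]
    congr 1
    ext x
    exact (hτ x).symm
  rw [lb, lb, h2, h1.roots_map, Multiset.map_map]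
  congr 1
  exact Multiset.map_congr rfl fun x _ => hθ x

theorem cusp_semilinear [Finite F] [Finite L] (hV : Module.finrank F V = Module.finrank F L) :
    cusp L' θ' g' = cusp L θ g := by
  have hF' : Finite F' := Finite.of_equiv F σ.toEquiv
  have hfr := finrank_semilinear σ e
  have hc := charpoly_semilinear σ e he hg
  have hn0 : 0 < Module.finrank F L := Module.finrank_pos
  have hnt : Nontrivial V := Module.nontrivial_of_finrank_pos (R := F) (by omega)
  have hnt' : Nontrivial V' := Module.nontrivial_of_finrank_pos (R := F') (by omega)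
  have hcard : Nat.card F' = Nat.card F := Nat.card_congr σ.toEquiv.symm
  have key : ∀ (f : F[X]) (m : ℕ), f.Monic → Irreducible f → 0 < m → g.charpoly = f ^ m →
      cusp L' θ' g' = cusp L θ g := by
    intro f m hf hirr hm hfm
    obtain ⟨k, hk⟩ := exists_finrank_ker hirr (g := g) (by rw [hfm]; exact dvd_pow_self f hm.ne')
    have hirr' : Irreducible (f.map (σ : F →+* F')) := by
      rw [← mapEquiv_apply]
      exact (MulEquiv.irreducible_iff (mapEquiv σ)).2 hirr
    have hfm' : g'.charpoly = (f.map (σ : F →+* F')) ^ m := by rw [hc, hfm, Polynomial.map_pow]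
    have hdm : m * f.natDegree = Module.finrank F V := by
      rw [← LinearMap.charpoly_natDegree g, hfm, natDegree_pow]
    have hk' : Module.finrank F' (LinearMap.ker (aeval g' (f.map (σ : F →+* F')))) =
        (f.map (σ : F →+* F')).natDegree * (k + 1) := by
      rw [finrank_ker_semilinear σ e he hg, hk, natDegree_map]
    rw [cusp_formula L θ hf hirr hfm hk, cusp_formula L' θ' (hf.map _) hirr' hfm' hk', hfr, natDegree_map,
      hcard, lb_semilinear σ τ hτ hθ hirr]
    rw [← hV, ← hdm]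
    exact dvd_mul_left _ _
  rcases cusp_eq_zero_or L θ g with ⟨f, m, hf, hirr, hm, hfm⟩ | h0
  · exact key f m hf hirr hm hfm
  · rcases cusp_eq_zero_or L' θ' g' with ⟨f, m, hf, hirr, hm, hfm⟩ | h0'
    · have h1 : g.charpoly = (f.map (σ.symm : F' →+* F)) ^ m := by
        rw [← Polynomial.map_pow, ← hfm, hc, Polynomial.map_map]
        have h2 : ((σ.symm : F' →+* F).comp (σ : F →+* F')) = RingHom.id F := by
          ext x
          simp
        rw [h2, Polynomial.map_id]
      refine key _ m (hf.map _) ?_ hm h1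
      rw [← mapEquiv_apply]
      exact (MulEquiv.irreducible_iff (mapEquiv σ.symm)).2 hirr
    · rw [h0, h0']

end semilinear

/-! ### matrices -/

section matrix

variable {F : Type u} [Field F] [Finite F] (L : Type w) [Field L] [Algebra F L] (θ : L →*₀ ℂ)
variable {ι : Type v} [Fintype ι] [DecidableEq ι]

/-- the cuspidal class function on matrices -/
noncomputable def cuspMat (M : Matrix ι ι F) : ℂ := cusp L θ (Matrix.toLin' M)

theorem cuspMat_transpose (M : Matrix ι ι F) : cuspMat L θ M.transpose = cuspMat L θ M := by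
  have h1 : ∀ M : Matrix ι ι F, (Matrix.toLin' M).charpoly = M.charpoly := by
    intro M
    rw [← LinearMap.charpoly_toMatrix (Matrix.toLin' M) (Pi.basisFun F ι), ← LinearMap.toMatrix'_toLin' M]
    simp [LinearMap.toMatrix_eq_toMatrix']
  have h2 : ∀ (M : Matrix ι ι F) (f : F[X]), aeval (Matrix.toLin' M) f = Matrix.toLin' (aeval M f) := by
    intro M f
    exact aeval_algHom_apply (Matrix.toLinAlgEquiv' : Matrix ι ι F ≃ₐ[F] _) M f
  refine cusp_congr L θ ?_ fun f _ => ?_
  · rw [h1, h1, Matrix.charpoly_transpose]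
  · rw [h2, h2]
    have h3 : ∀ f : F[X], aeval M.transpose f = (aeval M f).transpose := by
      intro f
      induction f using Polynomial.induction_on' with
      | add p q hp hq => rw [map_add, map_add, hp, hq, Matrix.transpose_add]
      | monomial n a =>
        rw [aeval_monomial, aeval_monomial, ← Algebra.smul_def, ← Algebra.smul_def, Matrix.transpose_smul,
          Matrix.transpose_pow]
    rw [h3]
    have h4 := LinearMap.finrank_range_add_finrank_ker (Matrix.toLin' (aeval M f))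
    have h5 := LinearMap.finrank_range_add_finrank_ker (Matrix.toLin' (aeval M f).transpose)
    have h6 := Matrix.rank_transpose (aeval M f)
    have h7 : ∀ A : Matrix ι ι F, A.rank = Module.finrank F (LinearMap.range (Matrix.toLin' A)) := fun A => rfl
    rw [h7, h7] at h6
    omega

end matrix

section matrixIrr

open scoped MatrixGroups

variable {F : Type u} [Field F] [Finite F] {L : Type w} [Field L] [Finite L] [Algebra F L] (θ : L →*₀ ℂ)
variable {ι : Type v} [Fintype ι] [DecidableEq ι]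

theorem cuspMat_isIrr (hι : Fintype.card ι = Module.finrank F L)
    (hreg : Regular F (Module.finrank F L) θ) :
    IsIrrCharacter (GL ι F) (fun g => cuspMat L θ (g : Matrix ι ι F)) := by
  have h1 := cusp_isIrr (V := ι → F) θ (by rw [Module.finrank_fintype_fun_eq_card, hι]) hreg
  exact Characters.Core.isIrr_comp (Matrix.GeneralLinearGroup.toLin : GL ι F ≃* _).toMonoidHom
    (Matrix.GeneralLinearGroup.toLin : GL ι F ≃* _).surjective h1

theorem cuspMat_generalized (hι : Fintype.card ι = Module.finrank F L) :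
    IsGeneralizedCharacter (GL ι F) (fun g => cuspMat L θ (g : Matrix ι ι F)) := by
  have h1 := cusp_generalized (V := ι → F) θ (by rw [Module.finrank_fintype_fun_eq_card, hι])
  exact isGeneralizedCharacter_comp (Matrix.GeneralLinearGroup.toLin : GL ι F ≃* _).toMonoidHom h1

end matrixIrr

end Cfsg.Agent.H139.Cusp
end

-- part: H139/Cusp/Bridge
section
/-!
# The cuspidal characters in the language of `Cfsg.Agent.H53.HC.GLW`

`psi L θ : GL (Fin n) F → ℂ`, its cuspidality `IsCusp`, and numerical criteria for the exponents.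
-/

set_option autoImplicit false

open Polynomial Cfsg
open scoped ComplexConjugate

namespace Cfsg.Agent.H139.Cusp

open Cfsg.Agent.H53.HC

universe u v v' w w'

attribute [local instance] fintypeHom fintypeSub finite_quot

section psi

variable {F : Type u} [Field F] [Finite F] (L : Type w) [Field L] [Algebra F L] (θ : L →*₀ ℂ) {n : ℕ}

/-- the cuspidal class function on the matrix group -/
noncomputable def psi (g : GL (Fin n) F) : ℂ := cuspMat L θ (g : Matrix (Fin n) (Fin n) F)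

theorem psi_glE {W : Type v} [AddCommGroup W] [Module F W] [Finite W] (b : Module.Basis (Fin n) F W)
    (f : W ≃ₗ[F] W) : psi L θ (glE b f) = cusp L θ (f : W →ₗ[F] W) := by
  rw [psi, cuspMat, coe_glE]
  refine cusp_conj L θ b.equivFun (g := (f : W →ₗ[F] W)) fun v => ?_
  rw [Matrix.toLin'_apply]
  exact LinearMap.toMatrix_mulVec_repr b b (f : W →ₗ[F] W) v

theorem psi_isClass : IsClassFunction (GL (Fin n) F) (psi L θ) := by
  intro g h
  let e : (Fin n → F) ≃ₗ[F] (Fin n → F) := LinearEquiv.ofLinearMap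
    (Matrix.toLin' (h : Matrix (Fin n) (Fin n) F)) (Matrix.toLin' ((h⁻¹ : GL (Fin n) F) : Matrix (Fin n) (Fin n) F))
    (by rw [← Matrix.toLin'_mul, ← Units.val_mul, mul_inv_cancel, Units.val_one, Matrix.toLin'_one])
    (by rw [← Matrix.toLin'_mul, ← Units.val_mul, inv_mul_cancel, Units.val_one, Matrix.toLin'_one])
  refine cusp_conj L θ e fun v => ?_
  show Matrix.toLin' ((h * g * h⁻¹ : GL (Fin n) F) : Matrix (Fin n) (Fin n) F)
    (Matrix.toLin' (h : Matrix (Fin n) (Fin n) F) v) =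
    Matrix.toLin' (h : Matrix (Fin n) (Fin n) F) (Matrix.toLin' (g : Matrix (Fin n) (Fin n) F) v)
  rw [← Matrix.toLin'_mul_apply, ← Matrix.toLin'_mul_apply, ← Units.val_mul, ← Units.val_mul,
    inv_mul_cancel_right]

/-- `cl` of `psi` is `cusp` -/
theorem cl_psi {W : Type v} [AddCommGroup W] [Module F W] [Finite W] (hW : Module.finrank F W = n)
    (f : W ≃ₗ[F] W) : cl (psi (n := n) L θ) f = cusp L θ (f : W →ₗ[F] W) := by
  have b : Module.Basis (Fin n) F W := Module.finBasisOfFinrankEq F W hW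
  rw [cl_eq (psi_isClass L θ) b, psi_glE]

theorem psi_one (hn : 0 < n) : psi L θ (1 : GL (Fin n) F) = (degP (Nat.card F) n : ℂ) := by
  rw [psi, cuspMat, Units.val_one, Matrix.toLin'_one]
  have h1 := cusp_one L θ (V := Fin n → F) (by rw [Module.finrank_fin_fun]; exact hn)
  rw [Module.finrank_fin_fun] at h1
  exact h1

omit [Finite F] in
open Classical in
/-- the sum over the translates of the unipotent radical, in the language of linear equivalences -/
theorem sum_radU {W : Type v} [AddCommGroup W] [Module F W] [Finite W] {D : Submodule F W} (h0 : D ≠ ⊥)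
    (h1 : D ≠ ⊤) (g : W ≃ₗ[F] W) (hg : D ≤ D.comap (g : W →ₗ[F] W)) [Fintype (radU D)] :
    ∑ u : radU D, cusp L θ ((g * (u : W ≃ₗ[F] W) : W ≃ₗ[F] W) : W →ₗ[F] W) = 0 := by
  have hgi : ∀ w ∈ D, g.symm w ∈ D := by
    have h2 : D.map (g : W →ₗ[F] W) = D := by
      apply Submodule.eq_of_le_of_finrank_eq (Submodule.map_le_iff_le_comap.2 hg)
      exact g.finrank_map_eq D
    intro w hw
    rw [← h2] at hw
    obtain ⟨x, hx, rfl⟩ := hw
    have : g.symm ((g : W →ₗ[F] W) x) = x := g.symm_apply_apply x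
    rwa [this]
  rw [← cusp_vanish L θ (g := (g : W →ₗ[F] W)) hg h0 h1]
  symm
  -- the equivalence
  let E : ((W ⧸ D) →ₗ[F] D) → radU D := fun t =>
    ⟨{ toLinearMap := 1 + (g.symm : W →ₗ[F] W) ∘ₗ phi D t
       invFun := fun w => w - g.symm (phi D t w)
       left_inv := fun w => by
        show (w + g.symm (phi D t w)) - g.symm (phi D t (w + g.symm (phi D t w))) = w
        rw [map_add (phi D t), phi_of_mem D t (hgi _ (phi_mem D t w)), add_zero, add_sub_cancel_right]
       right_inv := fun w => by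
        show (w - g.symm (phi D t w)) + g.symm (phi D t (w - g.symm (phi D t w))) = w
        rw [map_sub (phi D t), phi_of_mem D t (hgi _ (phi_mem D t w)), sub_zero, sub_add_cancel] }, by
      refine ⟨fun w => ?_, fun d hd => ?_⟩
      · show w + g.symm (phi D t w) - w ∈ D
        rw [add_sub_cancel_left]
        exact hgi _ (phi_mem D t w)
      · show d + g.symm (phi D t d) = d
        rw [phi_of_mem D t hd, map_zero, add_zero]⟩
  have hE : ∀ t w, (E t : W ≃ₗ[F] W) w = w + g.symm (phi D t w) := fun t w => rfl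
  refine Fintype.sum_bijective E ⟨?_, ?_⟩ _ _ fun t => ?_
  · intro t t' h
    apply phi_injective (N := D)
    apply LinearMap.ext
    intro w
    have h2 : (E t : W ≃ₗ[F] W) w = (E t' : W ≃ₗ[F] W) w := by rw [h]
    rw [hE, hE, add_right_inj] at h2
    exact g.symm.injective h2
  · intro u
    obtain ⟨t, ht⟩ := exists_phi (N := D) ((g : W →ₗ[F] W) ∘ₗ (((u : W ≃ₗ[F] W) : W →ₗ[F] W) - 1))
      (fun w => hg (u.2.1 w)) (fun w hw => by
        show g ((u : W ≃ₗ[F] W) w - w) = 0
        rw [u.2.2 w hw, sub_self, map_zero])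
    refine ⟨t, ?_⟩
    apply Subtype.ext
    apply LinearEquiv.ext
    intro w
    rw [hE, ht]
    show w + g.symm (g ((u : W ≃ₗ[F] W) w - w)) = (u : W ≃ₗ[F] W) w
    rw [g.symm_apply_apply, add_sub_cancel]
  · congr 1
    apply LinearMap.ext
    intro w
    show g w + phi D t w = g (w + g.symm (phi D t w))
    rw [map_add, g.apply_symm_apply]

/-- **Cuspidality** in the sense of `H53.HC.IsCusp`. -/
theorem psi_isCusp : IsCusp (psi (n := n) (F := F) L θ) := by
  classical
  intro D h0 h1 _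
  have h2 := sum_radU L θ h0 h1 (1 : (Fin n → F) ≃ₗ[F] (Fin n → F)) (fun x hx => hx)
  rw [← h2]
  refine Finset.sum_congr rfl fun u _ => ?_
  rw [one_mul, cl_psi L θ (by rw [Module.finrank_fin_fun])]

end psi

section irr

variable {F : Type u} [Field F] [Finite F] {L : Type w} [Field L] [Finite L] [Algebra F L] (θ : L →*₀ ℂ) {n : ℕ}

theorem psi_isIrr (hn : Module.finrank F L = n) (hreg : Regular F n θ) :
    IsIrrCharacter (GL (Fin n) F) (psi L θ) :=
  cuspMat_isIrr θ (by rw [Fintype.card_fin, hn]) (hn ▸ hreg)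

theorem psi_generalized (hn : Module.finrank F L = n) :
    IsGeneralizedCharacter (GL (Fin n) F) (psi L θ) :=
  cuspMat_generalized θ (by rw [Fintype.card_fin, hn])

open Matrix in
theorem psi_scalar (hn : Module.finrank F L = n) (c : Fˣ) (g : GL (Fin n) F) :
    psi L θ (GeneralLinearGroup.scalar (Fin n) c * g) = θ (algebraMap F L c) * psi L θ g := by
  have h1 := cusp_smul (V := Fin n → F) θ (by rw [Module.finrank_fin_fun, hn]) c.ne_zero
    (Matrix.toLin' (g : Matrix (Fin n) (Fin n) F))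
  rw [psi, psi, cuspMat, cuspMat, ← h1, Units.val_mul]
  congr 1
  rw [← map_smul, smul_eq_diagonal_mul]
  rfl

end irr

/-! ### exponents -/

section exponent

variable {F : Type u} [Field F] [Finite F] {L : Type w} [Field L] [Finite L] [Algebra F L]
variable {θ : L →*₀ ℂ} (hθ : Function.Injective θ)

include hθ

omit [Field F] [Finite F] [Algebra F L] in
/-- equality of powers of an injective multiplicative map, precomposed with a power map -/
theorem powTheta_eq_iff {a b s : ℕ} (ha : a ≠ 0) (hb : b ≠ 0) (hs : s ≠ 0) :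
    (∀ x : L, powTheta θ b hb x = powTheta θ a ha (x ^ s)) ↔ b ≡ a * s [MOD Nat.card Lˣ] := by
  constructor
  · intro h
    obtain ⟨γ, hγ⟩ := IsCyclic.exists_ofOrder_eq_natCard (α := Lˣ)
    have h3 := h (γ : L)
    rw [powTheta_apply, powTheta_apply, map_pow, ← pow_mul, mul_comm s a, ← map_pow, ← map_pow] at h3
    have h5 : γ ^ b = γ ^ (a * s) := Units.ext (hθ h3)
    rw [pow_eq_pow_iff_modEq, hγ] at h5
    exact h5
  · intro h x
    rw [powTheta_apply, powTheta_apply, map_pow, ← pow_mul, mul_comm s a, ← map_pow, ← map_pow]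
    by_cases hx : x = 0
    · rw [hx, zero_pow hb, zero_pow (mul_ne_zero ha hs)]
    · have h3 : (Units.mk0 x hx) ^ Nat.card Lˣ = 1 := pow_card_eq_one'
      have h4 : x ^ Nat.card Lˣ = 1 := congrArg Units.val h3
      rw [pow_eq_pow_of_modEq h h4]

/-- the power `θ ^ a` is regular if and only if `q ^ n - 1` divides no `a (q ^ i - 1)` -/
theorem regular_powTheta_iff {a : ℕ} (ha : a ≠ 0) {n : ℕ} (hn : Module.finrank F L = n) :
    Regular F n (powTheta θ a ha) ↔
      ∀ i, 0 < i → i < n → ¬ (Nat.card F ^ n - 1) ∣ a * (Nat.card F ^ i - 1) := by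
  have hcardL : Nat.card Lˣ = Nat.card F ^ n - 1 := by
    rw [Nat.card_units, Module.natCard_eq_pow_finrank (K := F), hn]
  rw [regular_iff]
  refine forall_congr' fun i => forall_congr' fun _ => forall_congr' fun _ => not_congr ?_
  have hq : 1 ≤ Nat.card F ^ i := Nat.one_le_pow _ _ Nat.card_pos
  rw [powTheta_eq_iff hθ ha ha (by omega), hcardL, Nat.modEq_iff_dvd' (Nat.le_mul_of_pos_right a hq),
    Nat.mul_sub_one]

omit [Field F] [Finite F] [Algebra F L] in
/-- `conj (θ ^ b) = θ ^ a ∘ (x ↦ x ^ s)` if and only if `|L^*|` divides `a s + b` -/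
theorem conj_powTheta_eq_iff {a b s : ℕ} (ha : a ≠ 0) (hb : b ≠ 0) (hs : s ≠ 0) :
    (∀ x : L, conjTheta (powTheta θ b hb) x = powTheta θ a ha (x ^ s)) ↔ Nat.card Lˣ ∣ a * s + b := by
  have h1 : ∀ x : L, x ≠ 0 → (conjTheta (powTheta θ b hb) x = powTheta θ a ha (x ^ s) ↔
      θ (x ^ (a * s + b)) = 1) := by
    intro x hx
    have hx' : θ x ≠ 0 := (map_ne_zero θ).2 hx
    rw [conjTheta_apply, conj_theta_eq, powTheta_apply, powTheta_apply, map_inv₀, inv_pow, map_pow, map_pow,
      ← pow_mul, mul_comm s a, pow_add]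
    constructor
    · intro h
      rw [← h, inv_mul_cancel₀ (pow_ne_zero _ hx')]
    · exact inv_eq_of_mul_eq_one_left
  constructor
  · intro h
    obtain ⟨γ, hγ⟩ := IsCyclic.exists_ofOrder_eq_natCard (α := Lˣ)
    have h3 := (h1 (γ : L) γ.ne_zero).1 (h γ)
    rw [← hγ, orderOf_dvd_iff_pow_eq_one]
    apply Units.ext
    rw [Units.val_pow_eq_pow_val, Units.val_one]
    exact hθ (by rw [h3, map_one])
  · intro h x
    by_cases hx : x = 0
    · rw [hx, map_zero, zero_pow hs, map_zero]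
    · rw [h1 x hx]
      have h3 : (Units.mk0 x hx) ^ (a * s + b) = 1 := by
        obtain ⟨c, hc⟩ := h
        rw [hc, pow_mul, pow_card_eq_one', one_pow]
      have h4 : x ^ (a * s + b) = 1 := congrArg Units.val h3
      rw [h4, map_one]

omit [Field F] [Finite F] [Finite L] [Algebra F L] hθ in
/-- `θ ^ a` is trivial on the subgroup of order `m` of `L^*` if `m ∣ a` -/
theorem powTheta_eq_one {a : ℕ} (ha : a ≠ 0) {x : L} (hx : x ^ a = 1) : powTheta θ a ha x = 1 := by
  rw [powTheta_apply, ← map_pow, hx, map_one]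

omit [Finite F] [Finite L] hθ in
/-- with `a = q - 1` the map `θ ^ a` is trivial on `F^*` -/
theorem powTheta_algebraMap {a : ℕ} (ha : a ≠ 0) (hd : (Nat.card F - 1) ∣ a) {c : F} (hc : c ≠ 0) :
    powTheta θ a ha (algebraMap F L c) = 1 := by
  apply powTheta_eq_one
  obtain ⟨k, rfl⟩ := hd
  rw [← map_pow, pow_mul]
  have h1 : (Units.mk0 c hc) ^ (Nat.card F - 1) = 1 := by
    rw [← Nat.card_units]
    exact pow_card_eq_one'
  have h2 : c ^ (Nat.card F - 1) = 1 := congrArg Units.val h1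
  rw [h2, one_pow, map_one]

end exponent

end Cfsg.Agent.H139.Cusp
end

private theorem dce_78049fb4e5fb : _root_.True := by
  try have : _root_.True := by simp only [_root_.Cfsg.Agent.H139.Cusp.psi.eq_1]
  try have : _root_.True := by simp only [_root_.Cfsg.Agent.H139.Cusp.cuspMat.eq_1]
  exact _root_.True.intro
end

-- part: H53/HC/Gal
section
prune_inst 0x30604100364002000000008003200010240000000000000009000240030000020042000006000004000210010800000000000080020000000a000400000000000080100020400000000018000000000000000000000000000000000000000000000000000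
set_option linter.all false
open scoped Cfsg.Agent.FastGrp

-- part: H53/HC/Twist
section
/-!
# Twisting the cuspidal characters of `GL_n(F)` by the determinant (hub H5, helper53)

* `twist θ μ : L →*₀ ℂ`, `x ↦ θ x * μ (N x)`;
* `cusp_twist` : `cusp L (twist θ μ) g = μ (det g) * cusp L θ g`;
* `sum_mu` : orthogonality of the powers of an injective multiplicative map `F →*₀ ℂ`.
-/

set_option autoImplicit false

open Polynomial Cfsg
open scoped ComplexConjugate

namespace Cfsg.Agent.H53.HC.Gal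

open Cfsg.Agent.H139.Cusp

universe u v w

attribute [local instance] fintypeHom fintypeSub finite_quot

section twist

variable {F : Type u} [Field F] [Finite F] {L : Type w} [Field L] [Finite L] [Algebra F L]

/-- `x ↦ θ x * μ (N x)` -/
noncomputable def twist (θ : L →*₀ ℂ) (μ : F →*₀ ℂ) : L →*₀ ℂ where
  toFun x := θ x * μ (Algebra.norm F x)
  map_zero' := by rw [map_zero, zero_mul]
  map_one' := by rw [map_one, map_one, map_one, one_mul]
  map_mul' x y := by rw [map_mul, map_mul, map_mul, mul_mul_mul_comm]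

omit [Finite F] [Finite L] in
theorem twist_apply (θ : L →*₀ ℂ) (μ : F →*₀ ℂ) (x : L) : twist θ μ x = θ x * μ (Algebra.norm F x) := rfl

variable {V : Type v} [AddCommGroup V] [Module F V] [Finite V]

theorem norm_root (hV : Module.finrank F V = Module.finrank F L) {f : F[X]} (hf : f.Monic) (hirr : Irreducible f)
    {g : V →ₗ[F] V} {m : ℕ} (hfm : g.charpoly = f ^ m) {z : L} (hz : z ∈ (f.map (algebraMap F L)).roots) :
    Algebra.norm F z = LinearMap.det g := by
  have : Module.Finite F L := Module.Finite.of_finite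
  have hz0 : aeval z f = 0 := by
    have h1 := (mem_roots'.1 hz).2
    rwa [IsRoot.def, eval_map_algebraMap] at h1
  have hmin : minpoly F z = f := (minpoly.eq_of_irreducible_of_monic hirr hz0 hf).symm
  have hd : m * f.natDegree = Module.finrank F L := by
    rw [← hV, ← LinearMap.charpoly_natDegree g, hfm, natDegree_pow]
  have hsp : (f.map (algebraMap F L)).Splits := splits_of_natDegree_dvd hirr (hd ▸ dvd_mul_left _ _)
  have hfin : Module.finrank (IntermediateField.adjoin F {z}) L = m := by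
    have h1 := Module.finrank_mul_finrank F (IntermediateField.adjoin F {z}) L
    rw [IntermediateField.adjoin.finrank (Algebra.IsIntegral.isIntegral z), hmin, ← hd, mul_comm] at h1
    exact Nat.eq_of_mul_eq_mul_right hirr.natDegree_pos h1
  apply (algebraMap F L).injective
  rw [Algebra.norm_eq_prod_roots L (by rw [hmin]; exact hsp), hmin, hfin, LinearMap.det_eq_sign_charpoly_coeff,
    hfm, hV, map_mul, map_pow, map_neg, map_one]
  have h2 := hsp.coeff_zero_eq_prod_roots_of_monic (hf.map _)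
  rw [coeff_map, natDegree_map] at h2
  rw [← hd, coeff_zero_eq_eval_zero, eval_pow, ← coeff_zero_eq_eval_zero, map_pow, h2, mul_pow, ← mul_assoc,
    mul_comm m, pow_mul, ← mul_pow, ← mul_pow]
  have h3 : ((-1 : L) ^ f.natDegree * (-1) ^ f.natDegree) = 1 := by rw [← mul_pow, neg_one_mul, neg_neg, one_pow]
  rw [h3, one_mul]

theorem lb_twist (θ : L →*₀ ℂ) (μ : F →*₀ ℂ) (hV : Module.finrank F V = Module.finrank F L) {f : F[X]} (hf : f.Monic)
    (hirr : Irreducible f) {g : V →ₗ[F] V} {m : ℕ} (hfm : g.charpoly = f ^ m) :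
    lb L (twist θ μ) f = μ (LinearMap.det g) * lb L θ f := by
  rw [lb, lb, ← Multiset.sum_map_mul_left]
  congr 1
  refine Multiset.map_congr rfl fun z hz => ?_
  rw [twist_apply, norm_root hV hf hirr hfm hz, mul_comm]

theorem cusp_twist (θ : L →*₀ ℂ) (μ : F →*₀ ℂ) (hV : Module.finrank F V = Module.finrank F L) (g : V →ₗ[F] V) :
    cusp L (twist θ μ) g = μ (LinearMap.det g) * cusp L θ g := by
  have hn : 0 < Module.finrank F L := Module.finrank_pos
  have : Nontrivial V := Module.nontrivial_of_finrank_pos (R := F) (by omega)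
  have key : ∀ (f : F[X]) (m : ℕ), f.Monic → Irreducible f → 0 < m → g.charpoly = f ^ m →
      cusp L (twist θ μ) g = μ (LinearMap.det g) * cusp L θ g := by
    intro f m hf hirr hm hfm
    obtain ⟨k, hk⟩ := exists_finrank_ker hirr (g := g) (by rw [hfm]; exact dvd_pow_self f hm.ne')
    rw [cusp_formula L θ hf hirr hfm hk, cusp_formula L (twist θ μ) hf hirr hfm hk, lb_twist θ μ hV hf hirr hfm]
    ring
  rcases cusp_eq_zero_or L θ g with ⟨f, m, hf, hirr, hm, hfm⟩ | h0
  · exact key f m hf hirr hm hfm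
  · rcases cusp_eq_zero_or L (twist θ μ) g with ⟨f, m, hf, hirr, hm, hfm⟩ | h0'
    · exact key f m hf hirr hm hfm
    · rw [h0, h0', mul_zero]

theorem psi_twist {n : ℕ} (θ : L →*₀ ℂ) (μ : F →*₀ ℂ) (hn : Module.finrank F L = n) (g : GL (Fin n) F) :
    psi L (twist θ μ) g = μ (Matrix.det (g : Matrix (Fin n) (Fin n) F)) * psi L θ g := by
  rw [psi, psi, cuspMat, cuspMat, cusp_twist θ μ (by rw [Module.finrank_fin_fun, hn]), LinearMap.det_toLin']

end twist

section mu

variable {F : Type u} [Field F] [Finite F]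

open Classical in
/-- orthogonality -/
theorem sum_mu {μ : F →*₀ ℂ} (hμ : Function.Injective μ) {x : F} (hx : x ≠ 0) :
    ∑ a ∈ Finset.range (Nat.card F - 1), μ x ^ (a + 1) = if x = 1 then ((Nat.card F - 1 : ℕ) : ℂ) else 0 := by
  split_ifs with h
  · rw [h, map_one]
    simp only [_root_.one_pow, _root_.Finset.sum_const, _root_.Finset.card_range, _root_.nsmul_eq_mul, _root_.Nat.card_pos, _root_.Nat.cast_pred, _root_.mul_one]
  · have h1 : μ x ≠ 1 := fun e => h (hμ (e.trans (map_one μ).symm))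
    have h2 : μ x ^ (Nat.card F - 1) = 1 := by
      rw [← map_pow]
      have h3 : (Units.mk0 x hx) ^ (Nat.card F - 1) = 1 := by
        rw [← Nat.card_units]
        exact pow_card_eq_one'
      have h4 : x ^ (Nat.card F - 1) = 1 := congrArg Units.val h3
      rw [h4, map_one]
    have h3 := geom_sum_eq h1 (Nat.card F - 1)
    rw [h2, sub_self, zero_div] at h3
    simp only [pow_succ]
    rw [← Finset.sum_mul, h3, zero_mul]

end mu

end Cfsg.Agent.H53.HC.Gal
end

-- part: H53/HC/NSThree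
section
/-!
# A numerical lemma on `q² + q + 1` (hub H5, helper53)

`ns3` : for `q = p ^ f` no number `q ^ i + p ^ j` times `q - 1` is divisible by `q² + q + 1`.
-/

set_option autoImplicit false

namespace Cfsg.Agent.H53.HC.Gal

theorem dvd_sub_of {m a b p : ℕ} (hm : m.Coprime p) (hab : a ≤ b) (h : m ∣ p ^ a + p ^ b) : m ∣ p ^ (b - a) + 1 := by
  have h1 : p ^ a + p ^ b = p ^ a * (p ^ (b - a) + 1) := by
    rw [mul_add, mul_one, ← pow_add, Nat.add_sub_cancel' hab, add_comm]
  rw [h1] at h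
  exact (Nat.Coprime.pow_right a hm).dvd_of_dvd_mul_left h

/-- the size estimate -/
theorem small_of_sq {q x m g : ℕ} (hq : 2 ≤ q) (hm : g * m = q ^ 2 + q + 1) (hg : g ∣ 3) (hx : x ^ 2 ≤ q ^ 3)
    (hmx : m ≤ x + 1) : g = 3 ∧ q < 9 := by
  rcases (Nat.dvd_prime Nat.prime_three).1 hg with rfl | rfl
  · exfalso
    have h1 : q ^ 2 + q ≤ x := by omega
    have h2 : (q ^ 2 + q) ^ 2 ≤ q ^ 3 := (Nat.pow_le_pow_left h1 2).trans hx
    have h3 : (q ^ 2 + q) ^ 2 = q ^ 4 + 2 * q ^ 3 + q ^ 2 := by ring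
    have h4 : 0 < q ^ 2 := by positivity
    have h5 : 0 < q ^ 4 := by positivity
    omega
  · refine ⟨rfl, ?_⟩
    by_contra hq9
    have hq9' : 9 ≤ q := by omega
    obtain ⟨y, rfl⟩ := Nat.exists_eq_add_of_le hq9'
    have h1 : (9 + y) ^ 2 + (9 + y) + 1 ≤ 3 * (x + 1) := by
      rw [← hm]
      exact Nat.mul_le_mul_left 3 hmx
    have h2 : (9 + y) ^ 2 + (9 + y) - 2 ≤ 3 * x := by omega
    have h3 : (9 + y) ^ 2 + (9 + y) - 2 = y ^ 2 + 19 * y + 88 := by
      have : (9 + y) ^ 2 = y ^ 2 + 18 * y + 81 := by ring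
      omega
    rw [h3] at h2
    have h4 : (y ^ 2 + 19 * y + 88) ^ 2 ≤ 9 * (9 + y) ^ 3 := by
      calc (y ^ 2 + 19 * y + 88) ^ 2 ≤ (3 * x) ^ 2 := Nat.pow_le_pow_left h2 2
        _ = 9 * x ^ 2 := by ring
        _ ≤ 9 * (9 + y) ^ 3 := Nat.mul_le_mul_left 9 hx
    have h5 : (y ^ 2 + 19 * y + 88) ^ 2 = y ^ 4 + 38 * y ^ 3 + 537 * y ^ 2 + 3344 * y + 7744 := by ring
    have h6 : 9 * (9 + y) ^ 3 = 9 * y ^ 3 + 243 * y ^ 2 + 2187 * y + 6561 := by ring
    rw [h5, h6] at h4
    have : 0 ≤ y ^ 4 := Nat.zero_le _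
    (clear * - hm h4; omega)

theorem ns3_aux {p f : ℕ} (hp : p.Prime) (hf : 0 < f) {g m : ℕ} (hg : g ∣ 3)
    (hm : g * m = (p ^ f) ^ 2 + p ^ f + 1) (e : ℕ) : ¬ m ∣ p ^ e + 1 := by
  intro h
  have hp2 : 2 ≤ p := hp.two_le
  have hq2 : 2 ≤ p ^ f := hp2.trans (Nat.le_self_pow hf.ne' p)
  have hm0 : 0 < m := by
    rcases Nat.eq_zero_or_pos m with h0 | h0
    · rw [h0, mul_zero] at hm
      omega
    · exact h0
  have hm2 : 2 < m := by
    rcases (Nat.dvd_prime Nat.prime_three).1 hg with rfl | rfl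
    · have : 4 ≤ (p ^ f) ^ 2 := by nlinarith only [hq2]
      omega
    · have : 4 ≤ (p ^ f) ^ 2 := by nlinarith only [hq2]
      by_contra hlt
      have : (p ^ f) ^ 2 + p ^ f + 1 ≤ 6 := by omega
      omega
  -- `p ^ (3 f) = 1` modulo `m`
  have h3 : p ^ (3 * f) ≡ 1 [MOD m] := by
    have h1 : p ^ (3 * f) = (p ^ f - 1) * ((p ^ f) ^ 2 + p ^ f + 1) + 1 := by
      obtain ⟨y, hy⟩ := Nat.exists_eq_add_of_le hq2
      rw [mul_comm 3 f, pow_mul, hy]
      have : 2 + y - 1 = y + 1 := by omega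
      rw [this]; ring
    rw [h1, ← hm]
    have h2 : m ∣ (p ^ f - 1) * (g * m) := Dvd.intro_left ((p ^ f - 1) * g) (by ring)
    exact ((Nat.modEq_zero_iff_dvd.2 h2).add_right 1).trans (by rw [zero_add])
  -- reduction of the exponent
  have hred : ∀ e, m ∣ p ^ e + 1 → m ∣ p ^ (e % (3 * f)) + 1 := by
    intro e he
    have h1 : p ^ e ≡ p ^ (e % (3 * f)) [MOD m] := by
      conv_lhs => rw [← Nat.div_add_mod e (3 * f), pow_add, pow_mul]
      have := (h3.pow (e / (3 * f))).mul_right (p ^ (e % (3 * f)))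
      rwa [one_pow, one_mul] at this
    exact (Nat.modEq_zero_iff_dvd.1 ((h1.add_right 1).symm.trans (Nat.modEq_zero_iff_dvd.2 he)))
  obtain ⟨e₁, he₁, hle⟩ : ∃ e₁, m ∣ p ^ e₁ + 1 ∧ 2 * e₁ ≤ 3 * f := by
    have h1 := hred e h
    set e₀ := e % (3 * f) with he₀
    have hlt : e₀ < 3 * f := Nat.mod_lt _ (by omega)
    by_cases h2 : 2 * e₀ ≤ 3 * f
    · exact ⟨e₀, h1, h2⟩
    · refine ⟨3 * f - e₀, ?_, by omega⟩
      have h4 : p ^ (3 * f) = p ^ e₀ * p ^ (3 * f - e₀) := by rw [← pow_add, Nat.add_sub_cancel' hlt.le]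
      have h5 : m ∣ (p ^ e₀ + 1) * (p ^ (3 * f - e₀)) := Dvd.dvd.mul_right h1 _
      have h6 : (p ^ e₀ + 1) * (p ^ (3 * f - e₀)) = p ^ (3 * f) + p ^ (3 * f - e₀) := by rw [h4]; ring
      rw [h6] at h5
      have h7 : p ^ (3 * f) + p ^ (3 * f - e₀) ≡ 1 + p ^ (3 * f - e₀) [MOD m] := h3.add_right _
      rw [add_comm]
      exact Nat.modEq_zero_iff_dvd.1 (h7.symm.trans (Nat.modEq_zero_iff_dvd.2 h5))
  have h4 : m ≤ p ^ e₁ + 1 := Nat.le_of_dvd (by positivity) he₁
  have h5 : (p ^ e₁) ^ 2 ≤ (p ^ f) ^ 3 := by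
    rw [← pow_mul, ← pow_mul]
    exact Nat.pow_le_pow_right (by omega) (by omega)
  obtain ⟨rfl, h9⟩ := small_of_sq hq2 hm hg h5 h4
  have h7 : p ^ f = 4 ∨ p ^ f = 7 := by
    generalize p ^ f = q at *
    interval_cases q <;> (clear * - hm; omega)
  rcases h7 with h7 | h7
  · have hm7 : m = 7 := by rw [h7] at hm; omega
    have hp' : p = 2 := by
      have : p ∣ 2 ^ 2 := by
        have h8 : p ∣ p ^ f := dvd_pow_self p hf.ne'
        rw [h7] at h8
        exact h8
      exact (Nat.prime_dvd_prime_iff_eq hp Nat.prime_two).1 (hp.dvd_of_dvd_pow this)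
    subst hp'
    have hf2 : f = 2 := Nat.pow_right_injective le_rfl (by change 2 ^ f = 2 ^ 2; rw [h7])
    subst hf2
    rw [hm7] at he₁
    have : e₁ ≤ 3 := by omega
    interval_cases e₁ <;> omega
  · have hm7 : m = 19 := by rw [h7] at hm; omega
    have hp' : p = 7 := by
      have h8 : p ∣ p ^ f := dvd_pow_self p hf.ne'
      rw [h7] at h8
      exact (Nat.prime_dvd_prime_iff_eq hp (by norm_num)).1 h8
    subst hp'
    have hf1 : f = 1 := Nat.pow_right_injective (by norm_num : 2 ≤ 7) (by change 7 ^ f = 7 ^ 1; rw [h7])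
    subst hf1
    rw [hm7] at he₁
    have : e₁ ≤ 1 := by omega
    interval_cases e₁ <;> omega

/-- **The numerical lemma.** -/
theorem ns3 {p f : ℕ} (hp : p.Prime) (hf : 0 < f) (i j : ℕ) :
    ¬ ((p ^ f) ^ 2 + p ^ f + 1) ∣ (p ^ f - 1) * ((p ^ f) ^ i + p ^ j) := by
  intro h
  have hp2 : 2 ≤ p := hp.two_le
  have hq2 : 2 ≤ p ^ f := hp2.trans (Nat.le_self_pow hf.ne' p)
  set q := p ^ f with hq
  set g := Nat.gcd (q ^ 2 + q + 1) (q - 1) with hg
  have hg3 : g ∣ 3 := by
    have h1 : q ^ 2 + q + 1 = (q - 1) * (q + 2) + 3 := by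
      obtain ⟨y, hy⟩ := Nat.exists_eq_add_of_le hq2
      rw [hy]
      have : 2 + y - 1 = y + 1 := by omega
      rw [this]; ring
    have h2 : g ∣ (q - 1) * (q + 2) := (Nat.gcd_dvd_right _ _).mul_right _
    have h3 : g ∣ (q - 1) * (q + 2) + 3 := h1 ▸ Nat.gcd_dvd_left _ _
    exact (Nat.dvd_add_right h2).1 h3
  have hg0 : 0 < g := Nat.gcd_pos_of_pos_left _ (by positivity)
  obtain ⟨m, hm⟩ : g ∣ q ^ 2 + q + 1 := Nat.gcd_dvd_left _ _
  obtain ⟨c, hc⟩ : g ∣ q - 1 := Nat.gcd_dvd_right _ _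
  have hcop : m.Coprime c := by
    have h1 : g = g * Nat.gcd m c := by
      rw [← Nat.gcd_mul_left, ← hm, ← hc]
    have h2 : g * 1 = g * Nat.gcd m c := by rw [mul_one]; exact h1
    exact (Nat.eq_of_mul_eq_mul_left hg0 h2).symm
  have h1 : m ∣ q ^ i + p ^ j := by
    rw [hm, hc, mul_assoc] at h
    exact hcop.dvd_of_dvd_mul_left (Nat.dvd_of_mul_dvd_mul_left hg0 h)
  have hmp : m.Coprime p := by
    rw [Nat.coprime_comm, hp.coprime_iff_not_dvd]
    intro h2
    have h3 : p ∣ q ^ 2 + q + 1 := by rw [hm]; exact h2.mul_left _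
    have h4 : p ∣ q := dvd_pow_self p hf.ne'
    have h5 : p ∣ q ^ 2 + q := (h4.trans (dvd_pow_self q two_ne_zero)).add h4
    have h6 := (Nat.dvd_add_right h5).1 h3
    exact hp.one_lt.ne' (Nat.dvd_one.1 h6)
  have h2 : ∃ e, m ∣ p ^ e + 1 := by
    rw [hq, ← pow_mul] at h1
    rcases le_total (f * i) j with h3 | h3
    · exact ⟨_, dvd_sub_of hmp h3 h1⟩
    · rw [add_comm] at h1
      exact ⟨_, dvd_sub_of hmp h3 h1⟩
  obtain ⟨e, he⟩ := h2
  exact ns3_aux hp hf hg3 hm.symm e he

end Cfsg.Agent.H53.HC.Gal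
end

-- part: H53/HC/Gal
section
/-!
# Cuspidal characters of `SL_3(F)` are not invariant under the graph automorphisms (hub H5, helper53)

`F` finite, `[L : F] = 3`, `Θ = powTheta θ (q - 1)` with `θ : L →*₀ ℂ` injective, `η` an irreducible constituent of the
restriction of `psi L Θ` to `SL_3(F)`:

* `not_swap` : `η` is not invariant under `x ↦ C (x⁻¹)^{τ T} C⁻¹`;
* `not_direct` : the complex conjugate of `η` is not the image of `η` under `x ↦ C x^τ C⁻¹`.
-/

set_option autoImplicit false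
set_option linter.unusedSectionVars false

open Polynomial Cfsg
open scoped ComplexConjugate

namespace Cfsg.Agent.H53.HC.Gal

open Cfsg.Agent.H139.Cusp Cfsg.Agent.Characters Matrix

universe u v w

attribute [local instance] fintypeHom fintypeSub finite_quot

/-- characters with a common constituent -/
theorem inner_ne_zero {N : Type*} [Group N] [Fintype N] {P P' η : N → ℂ} (hη : IsIrrCharacter N η)
    (h : IsCharacter N (P - η)) (h' : IsCharacter N (P' - η)) : classInner P P' ≠ 0 := by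
  obtain ⟨a, ha⟩ := Core.classInner_isNat h h'
  obtain ⟨b, hb⟩ := Core.classInner_isNat h (Core.isIrr_isCharacter hη)
  obtain ⟨c, hc⟩ := Core.classInner_isNat (Core.isIrr_isCharacter hη) h'
  have h1 : classInner P P' = a + b + c + 1 := by
    have e1 : P = (P - η) + η := by abel
    have e2 : P' = (P' - η) + η := by abel
    rw [e1, e2, Core.classInner_add_left, Core.classInner_add_right, Core.classInner_add_right, ha, hb, hc,
      Core.classInner_irr_self hη]
    ring
  rw [h1]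
  exact_mod_cast (by omega : a + b + c + 1 ≠ 0)

section sl

variable {F : Type u} [Field F] [Finite F] {n : ℕ}

theorem sum_sl {μ : F →*₀ ℂ} (hμ : Function.Injective μ) (H : GL (Fin n) F → ℂ) [Fintype (GL (Fin n) F)]
    [Fintype (_root_.Matrix.SpecialLinearGroup (Fin n) F)] :
    ∑ a ∈ Finset.range (Nat.card F - 1), ∑ g : GL (Fin n) F,
      μ (Matrix.det (g : Matrix (Fin n) (Fin n) F)) ^ (a + 1) * H g =
    ((Nat.card F - 1 : ℕ) : ℂ) * ∑ x : _root_.Matrix.SpecialLinearGroup (Fin n) F, H (SpecialLinearGroup.toGL x) := by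
  classical
  rw [Finset.sum_comm]
  have hdet : ∀ g : GL (Fin n) F, Matrix.det (g : Matrix (Fin n) (Fin n) F) ≠ 0 := fun g =>
    (GeneralLinearGroup.det g).ne_zero
  have h1 : ∀ g : GL (Fin n) F, ∑ a ∈ Finset.range (Nat.card F - 1),
      μ (Matrix.det (g : Matrix (Fin n) (Fin n) F)) ^ (a + 1) * H g =
      if Matrix.det (g : Matrix (Fin n) (Fin n) F) = 1 then ((Nat.card F - 1 : ℕ) : ℂ) * H g else 0 := by
    intro g
    rw [← Finset.sum_mul, sum_mu hμ (hdet g)]
    split_ifs
    · rfl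
    · rw [zero_mul]
  rw [Finset.sum_congr rfl fun g _ => h1 g, ← Finset.sum_filter, Finset.mul_sum]
  have h2 : (Finset.univ.filter fun g : GL (Fin n) F => Matrix.det (g : Matrix (Fin n) (Fin n) F) = 1) =
      (Finset.univ : Finset (_root_.Matrix.SpecialLinearGroup (Fin n) F)).image SpecialLinearGroup.toGL := by
    ext g
    simp only [Finset.mem_filter, Finset.mem_univ, true_and, Finset.mem_image]
    constructor
    · intro hg
      refine ⟨⟨g, hg⟩, ?_⟩
      ext i j
      rfl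
    · rintro ⟨x, rfl⟩
      exact x.2
  rw [h2, Finset.sum_image]
  intro x _ y _ hxy
  apply Subtype.ext
  exact congrArg Units.val hxy

variable {L : Type w} [Field L] [Finite L] [Algebra F L]

omit [Finite L] in
/-- inner products on matrix groups -/
theorem classInner_gl (θ θ' : L →*₀ ℂ) [Fintype (GL (Fin n) F)] [Fintype ((Fin n → F) →ₗ[F] (Fin n → F))ˣ] :
    classInner (psi (n := n) (F := F) L θ) (psi L θ') =
    classInner (fun g : ((Fin n → F) →ₗ[F] (Fin n → F))ˣ => cusp L θ (g : (Fin n → F) →ₗ[F] (Fin n → F)))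
      (fun g : ((Fin n → F) →ₗ[F] (Fin n → F))ˣ => cusp L θ' (g : (Fin n → F) →ₗ[F] (Fin n → F))) := by
  rw [← classInner_comp (GeneralLinearGroup.toLin : GL (Fin n) F ≃* ((Fin n → F) →ₗ[F] (Fin n → F))ˣ)
    (fun g : ((Fin n → F) →ₗ[F] (Fin n → F))ˣ => cusp L θ (g : (Fin n → F) →ₗ[F] (Fin n → F)))
    (fun g : ((Fin n → F) →ₗ[F] (Fin n → F))ˣ => cusp L θ' (g : (Fin n → F) →ₗ[F] (Fin n → F)))]
  rfl

/-- **Common constituents of restrictions to `SL_n`.** -/
theorem exists_frob_eq (hn : Module.finrank F L = n) (θ θ' : L →*₀ ℂ) [Fintype (_root_.Matrix.SpecialLinearGroup (Fin n) F)]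
    (h : classInner (psi (n := n) (F := F) L θ ∘ SpecialLinearGroup.toGL) (psi L θ' ∘ SpecialLinearGroup.toGL) ≠ 0) :
    ∃ i < n, ∀ x : L, Algebra.norm F x = 1 → θ' x = θ (x ^ Nat.card F ^ i) := by
  classical
  have : Finite (Matrix (Fin n) (Fin n) F) := inferInstance
  have : Finite (GL (Fin n) F) := inferInstance
  have : Fintype (GL (Fin n) F) := Fintype.ofFinite _
  have : Finite ((Fin n → F) →ₗ[F] (Fin n → F)) := DFunLike.finite _
  have : Fintype ((Fin n → F) →ₗ[F] (Fin n → F))ˣ := Fintype.ofFinite _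
  obtain ⟨μ, hμ⟩ := exists_theta F
  have h1 := sum_sl (n := n) hμ (fun g => psi L θ g * conj (psi L θ' g))
  have h2 : ∑ x : _root_.Matrix.SpecialLinearGroup (Fin n) F, psi L θ (SpecialLinearGroup.toGL x) *
      conj (psi L θ' (SpecialLinearGroup.toGL x)) ≠ 0 := by
    intro h3
    apply h
    rw [Core.classInner_def]
    have : ∑ x : _root_.Matrix.SpecialLinearGroup (Fin n) F, (psi (n := n) (F := F) L θ ∘ SpecialLinearGroup.toGL) x *
      conj ((psi L θ' ∘ SpecialLinearGroup.toGL) x) = 0 := h3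
    rw [this, mul_zero]
  have h3 : ((Nat.card F - 1 : ℕ) : ℂ) ≠ 0 := by
    have : 1 < Nat.card F := Finite.one_lt_card
    exact_mod_cast (by omega : Nat.card F - 1 ≠ 0)
  have h4 : ∑ a ∈ Finset.range (Nat.card F - 1), ∑ g : GL (Fin n) F,
      μ (Matrix.det (g : Matrix (Fin n) (Fin n) F)) ^ (a + 1) * (psi L θ g * conj (psi L θ' g)) ≠ 0 := by
    rw [h1]
    exact mul_ne_zero h3 h2
  obtain ⟨a, -, ha⟩ := Finset.exists_ne_zero_of_sum_ne_zero h4
  have h5 : classInner (psi (n := n) (F := F) L (twist θ (powTheta μ (a + 1) (Nat.succ_ne_zero a)))) (psi L θ') ≠ 0 := by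
    intro h6
    apply ha
    rw [Core.classInner_def] at h6
    have h7 : ((Nat.card (GL (Fin n) F) : ℂ))⁻¹ ≠ 0 := inv_ne_zero Core.card_ne_zero_complex
    have h8 := (mul_eq_zero.1 h6).resolve_left h7
    rw [← h8]
    refine Finset.sum_congr rfl fun g _ => ?_
    rw [psi_twist θ _ hn, powTheta_apply, mul_assoc]
  rw [classInner_gl, cusp_inner _ _ (by rw [Module.finrank_fin_fun, hn])] at h5
  have h6 : ((Finset.range (Module.finrank F L)).filter fun i => ∀ x : L, θ' x =
      (twist θ (powTheta μ (a + 1) (Nat.succ_ne_zero a))) (x ^ Nat.card F ^ i)).Nonempty := by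
    rw [Finset.nonempty_iff_ne_empty]
    intro h7
    rw [h7] at h5
    simp at h5
  obtain ⟨i, hi⟩ := h6
  rw [Finset.mem_filter, Finset.mem_range, hn] at hi
  refine ⟨i, hi.1, fun x hx => ?_⟩
  rw [hi.2 x, twist_apply, map_pow (Algebra.norm F), hx, one_pow, map_one, mul_one]

end sl

/-! ### field automorphisms -/

section semi

variable {F : Type u} [Field F] [Finite F] {L : Type w} [Field L] [Finite L] [Algebra F L]

theorem exists_frob_pow {p : ℕ} [Fact p.Prime] [CharP F p] (τ : F ≃+* F) : ∃ j : ℕ, ∀ x : F, τ x = x ^ p ^ j := by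
  let _ : Algebra (ZMod p) F := ZMod.algebra F p
  have hcomm : (τ : F →+* F).comp (algebraMap (ZMod p) F) = algebraMap (ZMod p) F := Subsingleton.elim _ _
  let τ' : F →ₐ[ZMod p] F := { (τ : F →+* F) with commutes' := fun r => RingHom.congr_fun hcomm r }
  have : Fintype F := Fintype.ofFinite F
  obtain ⟨j, hj⟩ := (FiniteField.bijective_frobeniusAlgHom_pow (ZMod p) F).2 τ'
  refine ⟨j, fun x => ?_⟩
  have h1 : ∀ (n : ℕ) (y : F), ((FiniteField.frobeniusAlgHom (ZMod p) F) ^ n) y = y ^ p ^ n := by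
    intro n y
    induction n generalizing y with
    | zero => simp
    | succ n ih =>
      rw [pow_succ, AlgHom.mul_apply, ih]
      simp [pow_succ, mul_comm, ← pow_mul]
  have h2 : τ' x = τ x := rfl
  rw [← h2, ← hj]
  exact h1 _ x

/-- extension of a field automorphism -/
theorem exists_ext {p : ℕ} [Fact p.Prime] [CharP F p] {τ : F ≃+* F} {j : ℕ} (hτ : ∀ x : F, τ x = x ^ p ^ j) :
    ∃ σ : L ≃+* L, (∀ x, σ x = x ^ p ^ j) ∧ ∀ c : F, σ (algebraMap F L c) = algebraMap F L (τ c) := by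
  have : CharP L p := charP_of_injective_algebraMap (algebraMap F L).injective p
  have : PerfectRing L p := inferInstance
  refine ⟨iterateFrobeniusEquiv L p j, fun x => iterateFrobeniusEquiv_def L p j x, fun c => ?_⟩
  rw [iterateFrobeniusEquiv_def, hτ, map_pow]

variable {n : ℕ}

theorem cuspMat_semilinear (hn : Module.finrank F L = n) {τ : F ≃+* F} {σ : L ≃+* L}
    (hσ : ∀ c : F, σ (algebraMap F L c) = algebraMap F L (τ c)) {θ θ' : L →*₀ ℂ} (hθ : ∀ x, θ' (σ x) = θ x)
    (A : Matrix (Fin n) (Fin n) F) : cuspMat L θ' (A.map τ) = cuspMat L θ A := by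
  rw [cuspMat, cuspMat]
  let e : (Fin n → F) ≃+ (Fin n → F) :=
    { toFun := fun v i => τ (v i)
      invFun := fun v i => τ.symm (v i)
      left_inv := fun v => by ext i; simp
      right_inv := fun v => by ext i; simp
      map_add' := fun v w => by ext i; simp }
  refine cusp_semilinear τ e (fun c v => ?_) (fun v => ?_) σ hσ hθ (by rw [Module.finrank_fin_fun, hn])
  · ext i
    change τ (c * v i) = τ c * τ (v i)
    rw [map_mul]
  · ext i
    rw [Matrix.toLin'_apply, Matrix.toLin'_apply]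
    change ∑ k, τ (A i k) * τ (v k) = τ (∑ k, A i k * v k)
    rw [map_sum]
    refine Finset.sum_congr rfl fun k _ => (map_mul _ _ _).symm

theorem cuspMat_conj (θ : L →*₀ ℂ) (C g : GL (Fin n) F) :
    cuspMat L θ ((C * g * C⁻¹ : GL (Fin n) F) : Matrix (Fin n) (Fin n) F) =
    cuspMat L θ (g : Matrix (Fin n) (Fin n) F) :=
  psi_isClass L θ g C

theorem psi_inv (hn : Module.finrank F L = n) (θ : L →*₀ ℂ) (g : GL (Fin n) F) :
    psi L θ g⁻¹ = psi L (conjTheta θ) g := by
  have h1 := cusp_inv (V := Fin n → F) θ (by rw [Module.finrank_fin_fun, hn]) (GeneralLinearGroup.toLin g)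
  rw [cusp_star] at h1
  rw [← map_inv] at h1
  exact h1

end semi

/-! ### the non-invariance -/

section main

variable {F : Type u} [Field F] [Finite F] {L : Type w} [Field L] [Finite L] [Algebra F L]
  {θ : L →*₀ ℂ} (hθ : Function.Injective θ)

include hθ

theorem no_common (hn : Module.finrank F L = 3) {p : ℕ} [Fact p.Prime] [CharP F p] {σ : L ≃+* L} {j : ℕ}
    (hσ : ∀ x, σ x = x ^ p ^ j) (hq0 : Nat.card F - 1 ≠ 0) {Θ' : L →*₀ ℂ}
    (hΘ' : ∀ x, Θ' x = conj (powTheta θ (Nat.card F - 1) hq0 (σ x)))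
    [Fintype (_root_.Matrix.SpecialLinearGroup (Fin 3) F)]
    (h : classInner (psi (n := 3) (F := F) L (powTheta θ (Nat.card F - 1) hq0) ∘ SpecialLinearGroup.toGL)
      (psi L Θ' ∘ SpecialLinearGroup.toGL) ≠ 0) : False := by
  have hp : p.Prime := Fact.out
  have : Fintype F := Fintype.ofFinite F
  obtain ⟨i, -, hi⟩ := exists_frob_eq hn _ _ h
  obtain ⟨f, hf⟩ : ∃ f : ℕ+, Fintype.card F = p ^ (f : ℕ) := by
    obtain ⟨f, -, hf⟩ := FiniteField.card F p
    exact ⟨f, hf⟩
  have hq : Nat.card F = p ^ (f : ℕ) := by rw [Nat.card_eq_fintype_card, hf]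
  have hq2 : 2 ≤ Nat.card F := Finite.one_lt_card
  obtain ⟨γ, hγ⟩ := IsCyclic.exists_ofOrder_eq_natCard (α := Lˣ)
  set q := Nat.card F with hqd
  -- the norm of `γ ^ (q - 1)`
  have hnorm : Algebra.norm F ((γ : L) ^ (q - 1)) = 1 := by
    rw [map_pow]
    have h1 : Algebra.norm F (γ : L) ≠ 0 := by
      rw [Ne, Algebra.norm_eq_zero_iff]
      exact γ.ne_zero
    have h3 : (Units.mk0 _ h1) ^ (q - 1) = 1 := by
      rw [hqd, ← Nat.card_units]
      exact pow_card_eq_one'
    exact congrArg Units.val h3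
  have h1 := hi _ hnorm
  rw [hΘ', conj_theta_eq, powTheta_apply, powTheta_apply, hσ] at h1
  -- `γ ^ ((q - 1) * ((q - 1) * (q ^ i + p ^ j))) = 1`
  have h2 : θ ((γ : L) ^ ((q - 1) * ((q - 1) * (q ^ i + p ^ j)))) = 1 := by
    have e1 : (q - 1) * ((q - 1) * (q ^ i + p ^ j)) = (q - 1) * q ^ i * (q - 1) + (q - 1) * p ^ j * (q - 1) := by ring
    rw [e1, pow_add, map_mul, pow_mul _ ((q - 1) * q ^ i), pow_mul _ ((q - 1) * p ^ j), map_pow θ (_ ^ _) (q - 1),
      map_pow θ (_ ^ _) (q - 1), pow_mul, pow_mul, ← h1, map_inv₀, inv_pow]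
    refine inv_mul_cancel₀ (pow_ne_zero _ ?_)
    rw [Ne, map_eq_zero θ]
    exact pow_ne_zero _ (pow_ne_zero _ γ.ne_zero)
  have h3 : γ ^ ((q - 1) * ((q - 1) * (q ^ i + p ^ j))) = 1 := by
    apply Units.ext
    rw [Units.val_pow_eq_pow_val, Units.val_one]
    exact hθ (by rw [h2, map_one])
  have h4 := orderOf_dvd_of_pow_eq_one h3
  rw [hγ, Nat.card_units, Module.natCard_eq_pow_finrank (K := F), hn, ← hqd] at h4
  have h5 : q ^ 3 - 1 = (q - 1) * (q ^ 2 + q + 1) := by
    obtain ⟨y, hy⟩ := Nat.exists_eq_add_of_le hq2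
    rw [hy]
    have e1 : 2 + y - 1 = y + 1 := by omega
    have e2 : (2 + y) ^ 3 = (y + 1) * ((2 + y) ^ 2 + (2 + y) + 1) + 1 := by ring
    rw [e1]
    omega
  rw [h5] at h4
  have h6 := Nat.dvd_of_mul_dvd_mul_left (by omega) h4
  rw [hq] at h6
  exact ns3 hp f.2 i j h6

/-- **No invariance under the graph automorphisms.** -/
theorem not_swap (hn : Module.finrank F L = 3) (hq0 : Nat.card F - 1 ≠ 0) {η : _root_.Matrix.SpecialLinearGroup (Fin 3) F → ℂ}
    (hη : IsIrrCharacter _ η)
    (hc : IsCharacter _ (psi (n := 3) (F := F) L (powTheta θ (Nat.card F - 1) hq0) ∘ SpecialLinearGroup.toGL - η))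
    (τ : F ≃+* F) (C : GL (Fin 3) F) (α : _root_.Matrix.SpecialLinearGroup (Fin 3) F →* _root_.Matrix.SpecialLinearGroup (Fin 3) F)
    (hα : ∀ x, (α x : Matrix (Fin 3) (Fin 3) F) =
      C * ((x⁻¹ : _root_.Matrix.SpecialLinearGroup (Fin 3) F) : Matrix (Fin 3) (Fin 3) F).transpose.map τ *
        ((C⁻¹ : GL (Fin 3) F) : Matrix (Fin 3) (Fin 3) F)) : η ∘ α ≠ η := by
  classical
  intro hinv
  have : Fintype F := Fintype.ofFinite F
  obtain ⟨p, hp'⟩ := CharP.exists F
  have : Fact p.Prime := ⟨CharP.char_is_prime F p⟩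
  obtain ⟨j, hj⟩ := exists_frob_pow (p := p) τ
  obtain ⟨σ, hσ, hστ⟩ := exists_ext (L := L) hj
  set Θ := powTheta θ (Nat.card F - 1) hq0 with hΘ
  let Θ₁ : L →*₀ ℂ := Θ.comp (σ : L →+* L).toMonoidWithZeroHom
  have hΘ₁ : ∀ x, Θ (σ x) = Θ₁ x := fun x => rfl
  refine no_common hθ hn hσ hq0 (Θ' := conjTheta Θ₁) (fun x => rfl) (inner_ne_zero hη hc ?_)
  have h1 : (psi (n := 3) (F := F) L Θ ∘ SpecialLinearGroup.toGL) ∘ α =
      psi L (conjTheta Θ₁) ∘ SpecialLinearGroup.toGL := by
    funext x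
    rw [Function.comp_apply, Function.comp_apply, Function.comp_apply, ← psi_inv hn Θ₁, ← map_inv]
    -- the matrix
    let B : GL (Fin 3) F := GeneralLinearGroup.map (τ : F →+* F)
      ((SpecialLinearGroup.toGL x⁻¹ : GL (Fin 3) F)⁻¹)
    have h2 : psi L Θ (SpecialLinearGroup.toGL (α x)) =
        cuspMat L Θ (((x⁻¹ : _root_.Matrix.SpecialLinearGroup (Fin 3) F) : Matrix (Fin 3) (Fin 3) F).transpose.map τ) := by
      let T : _root_.Matrix.SpecialLinearGroup (Fin 3) F := ⟨((x⁻¹ : _root_.Matrix.SpecialLinearGroup (Fin 3) F) :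
        Matrix (Fin 3) (Fin 3) F).transpose.map τ, by
          have h3 : (((x⁻¹ : _root_.Matrix.SpecialLinearGroup (Fin 3) F) : Matrix (Fin 3) (Fin 3) F).transpose.map τ).det =
              τ (((x⁻¹ : _root_.Matrix.SpecialLinearGroup (Fin 3) F) : Matrix (Fin 3) (Fin 3) F).transpose.det) :=
            (RingHom.map_det (τ : F →+* F) _).symm
          rw [h3, Matrix.det_transpose, (x⁻¹).2, map_one]⟩
      have h4 : ((C * SpecialLinearGroup.toGL T * C⁻¹ : GL (Fin 3) F) : Matrix (Fin 3) (Fin 3) F) = (α x).1 := by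
        rw [hα]; rfl
      have h5 := cuspMat_conj Θ C (SpecialLinearGroup.toGL T)
      rw [h4] at h5
      exact h5
    rw [h2, Matrix.transpose_map, cuspMat_transpose, cuspMat_semilinear hn hστ hΘ₁]
    rfl
  have h2 := Core.isCharacter_comp α hc
  have h3 : (psi (n := 3) (F := F) L Θ ∘ SpecialLinearGroup.toGL - η) ∘ α =
      psi L (conjTheta Θ₁) ∘ SpecialLinearGroup.toGL - η := by
    rw [← h1]
    funext x
    change (psi L Θ ∘ SpecialLinearGroup.toGL) (α x) - (η ∘ α) x = _
    rw [hinv]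
    rfl
  rw [h3] at h2
  exact h2

/-- **The complex conjugate is not a semilinear conjugate.** -/
theorem not_direct (hn : Module.finrank F L = 3) (hq0 : Nat.card F - 1 ≠ 0) {η : _root_.Matrix.SpecialLinearGroup (Fin 3) F → ℂ}
    (hη : IsIrrCharacter _ η)
    (hc : IsCharacter _ (psi (n := 3) (F := F) L (powTheta θ (Nat.card F - 1) hq0) ∘ SpecialLinearGroup.toGL - η))
    (τ : F ≃+* F) (C : GL (Fin 3) F) (α : _root_.Matrix.SpecialLinearGroup (Fin 3) F →* _root_.Matrix.SpecialLinearGroup (Fin 3) F)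
    (hα : ∀ x, (α x : Matrix (Fin 3) (Fin 3) F) =
      C * (x : Matrix (Fin 3) (Fin 3) F).map τ * ((C⁻¹ : GL (Fin 3) F) : Matrix (Fin 3) (Fin 3) F)) :
    η ∘ α ≠ fun x => conj (η x) := by
  classical
  intro hinv
  have : Fintype F := Fintype.ofFinite F
  obtain ⟨p, hp'⟩ := CharP.exists F
  have : Fact p.Prime := ⟨CharP.char_is_prime F p⟩
  obtain ⟨j, hj⟩ := exists_frob_pow (p := p) τ
  obtain ⟨σ, hσ, hστ⟩ := exists_ext (L := L) hj
  set Θ := powTheta θ (Nat.card F - 1) hq0 with hΘ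
  let Θ₁ : L →*₀ ℂ := Θ.comp (σ : L →+* L).toMonoidWithZeroHom
  have hΘ₁ : ∀ x, Θ (σ x) = Θ₁ x := fun x => rfl
  refine no_common hθ hn hσ hq0 (Θ' := conjTheta Θ₁) (fun x => rfl) (inner_ne_zero hη hc ?_)
  have h1 : ∀ x, psi L Θ (SpecialLinearGroup.toGL (α x)) = psi L Θ₁ (SpecialLinearGroup.toGL x) := by
    intro x
    have h2 : psi L Θ (SpecialLinearGroup.toGL (α x)) = cuspMat L Θ ((x : Matrix (Fin 3) (Fin 3) F).map τ) := by
      let T : _root_.Matrix.SpecialLinearGroup (Fin 3) F := ⟨(x : Matrix (Fin 3) (Fin 3) F).map τ, by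
          have h3 : ((x : Matrix (Fin 3) (Fin 3) F).map τ).det = τ ((x : Matrix (Fin 3) (Fin 3) F).det) :=
            (RingHom.map_det (τ : F →+* F) _).symm
          rw [h3, x.2, map_one]⟩
      have h4 : ((C * SpecialLinearGroup.toGL T * C⁻¹ : GL (Fin 3) F) : Matrix (Fin 3) (Fin 3) F) = (α x).1 := by
        rw [hα]; rfl
      have h5 := cuspMat_conj Θ C (SpecialLinearGroup.toGL T)
      rw [h4] at h5
      exact h5
    rw [h2, cuspMat_semilinear hn hστ hΘ₁]
    rfl
  have h2 := Core.isCharacter_conj (Core.isCharacter_comp α hc)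
  have h3 : (fun x => conj (((psi (n := 3) (F := F) L Θ ∘ SpecialLinearGroup.toGL - η) ∘ α) x)) =
      psi L (conjTheta Θ₁) ∘ SpecialLinearGroup.toGL - η := by
    funext x
    change conj (psi L Θ (SpecialLinearGroup.toGL (α x)) - (η ∘ α) x) =
      psi L (conjTheta Θ₁) (SpecialLinearGroup.toGL x) - η x
    rw [hinv, map_sub, Complex.conj_conj, h1]
    congr 1
    exact cusp_star L Θ₁ _
  rw [h3] at h2
  exact h2

end main

end Cfsg.Agent.H53.HC.Gal
end
end

-- part: H477/HC/Hecke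
section
prune_inst 0x602044420000080018009031205c5282000402004b000080600f0206ca3e602d020e608c200d17583a0c552031004000000080020000000a200000011900800000100090080100320080000082000000000000300000000000000000041004000000000
set_option linter.all false
open scoped Cfsg.Agent.FastGrp

/-!
# The two constituents of a Harish-Chandra induced character with a quadratic Hecke algebra (hub H5, helper477)

`P ≤ G`, `U ≤ P` normalised by `P`, `w`, an irreducible representation `ρ` of `P` trivial on `U`.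
On the induced module `{f : G → M | f (g p) = ρ(p)⁻¹ f(g)}` the operator `T f (g) = ∑ u : U, f (g u w)` satisfies
`T² = A T + |U|` and has trace `0`. If the norm of the induced character is `2`, its two constituents have the degrees
`-μ D / (λ - μ)` and `λ D / (λ - μ)`, `λ`, `μ` the roots of `t² = A t + |U|`, `D = |G : P| ψ(1)`.
-/

set_option autoImplicit false
set_option linter.unusedSectionVars false

open scoped ComplexConjugate
open Cfsg

namespace Cfsg.Agent.H477.HC

open Cfsg.Agent.OddOrderCharacters.Clifford Cfsg.Agent.Characters Module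

universe u v

section Lin

variable {G : Type u} [Fintype G] {M : Type v} [AddCommGroup M] [Module ℂ M] [FiniteDimensional ℂ M]

open Classical in
theorem trace_fun (N : (G → M) →ₗ[ℂ] (G → M)) :
    LinearMap.trace ℂ _ N = ∑ g, LinearMap.trace ℂ M
      ((LinearMap.proj g).comp (N.comp (LinearMap.single ℂ (fun _ => M) g))) := by
  have h : N = ∑ g, (N.comp (LinearMap.single ℂ (fun _ => M) g)).comp (LinearMap.proj g) := by
    refine LinearMap.ext fun f => ?_
    rw [LinearMap.sum_apply]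
    have : f = ∑ g, Pi.single g (f g) := (Finset.univ_sum_single f).symm
    conv_lhs => rw [this]
    rw [map_sum]
    rfl
  conv_lhs => rw [h]
  rw [map_sum]
  refine Finset.sum_congr rfl fun g _ => ?_
  exact LinearMap.trace_comp_comm' _ _

end Lin

/-- the character of the image of an equivariant idempotent -/
theorem isCharacter_idem {G : Type u} [Group G] {V : Type v} [AddCommGroup V] [Module ℂ V] [FiniteDimensional ℂ V]
    (τ : Representation ℂ G V) (π : V →ₗ[ℂ] V) (h1 : π * π = π) (h2 : ∀ g, τ g * π = π * τ g) :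
    IsCharacter G (fun g => LinearMap.trace ℂ V (τ g * π)) := by
  let W : Subrepresentation τ :=
    { toSubmodule := LinearMap.range π
      apply_mem_toSubmodule := by
        rintro g _ ⟨v, rfl⟩
        exact ⟨τ g v, (LinearMap.congr_fun (h2 g) v).symm⟩ }
  have h3 := Core.isCharacter_of_rep W.toRepresentation
  convert h3 using 1
  ext g
  have h4 : ∀ v, (τ g * π) v ∈ LinearMap.range π := fun v => ⟨τ g v, (LinearMap.congr_fun (h2 g) v).symm⟩
  rw [← LinearMap.trace_restrict_eq_of_forall_mem (LinearMap.range π) (τ g * π) h4]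
  change _ = LinearMap.trace ℂ _ (W.toRepresentation g)
  congr 1
  refine LinearMap.ext fun v => ?_
  apply Subtype.ext
  obtain ⟨v, v', rfl⟩ := v
  exact congrArg (τ g) (LinearMap.congr_fun h1 v')

/-- two characters of sum of norm `2` are irreducible -/
theorem isIrr_of_norm_two {G : Type u} [Group G] [Fintype G] {χ₁ χ₂ : G → ℂ} (h1 : IsCharacter G χ₁)
    (h2 : IsCharacter G χ₂) (h1' : χ₁ ≠ 0) (h2' : χ₂ ≠ 0) (h : classInner (χ₁ + χ₂) (χ₁ + χ₂) = 2) :
    IsIrrCharacter G χ₁ ∧ IsIrrCharacter G χ₂ := by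
  obtain ⟨a, ea⟩ := Core.classInner_isNat h1 h1
  obtain ⟨b, eb⟩ := Core.classInner_isNat h1 h2
  obtain ⟨c, ec⟩ := Core.classInner_isNat h2 h1
  obtain ⟨d, ed⟩ := Core.classInner_isNat h2 h2
  rw [Core.classInner_add_left, Core.classInner_add_right, Core.classInner_add_right, ea, eb, ec, ed] at h
  have h3 : a + b + (c + d) = 2 := by exact_mod_cast h
  have ha : a ≠ 0 := by
    rintro rfl
    rw [Nat.cast_zero] at ea
    exact h1' (Core.classInner_self_eq_zero ea)
  have hd : d ≠ 0 := by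
    rintro rfl
    rw [Nat.cast_zero] at ed
    exact h2' (Core.classInner_self_eq_zero ed)
  have ha1 : a = 1 := by omega
  have hd1 : d = 1 := by omega
  exact ⟨Core.isIrr_of_classInner_self h1 (by rw [ea, ha1, Nat.cast_one]),
    Core.isIrr_of_classInner_self h2 (by rw [ed, hd1, Nat.cast_one])⟩

theorem map_inv_of_one {P : Type u} [Group P] {M : Type v} [AddCommGroup M] [Module ℂ M] {ρ : Representation ℂ P M}
    {p : P} (h : ρ p = 1) : ρ p⁻¹ = 1 := by
  have h1 : ρ (p⁻¹ * p) = 1 := by rw [inv_mul_cancel, map_one]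
  rwa [map_mul, h, mul_one] at h1

section Machine

variable {G : Type u} [Group G] [Fintype G] (P : Subgroup G) [Fintype P] {M : Type v} [AddCommGroup M] [Module ℂ M]
  (ρ : Representation ℂ P M)

/-- left translation -/
def Lt : Representation ℂ G (G → M) where
  toFun x := { toFun := fun f g => f (x⁻¹ * g), map_add' := fun _ _ => rfl, map_smul' := fun _ _ => rfl }
  map_one' := by
    refine LinearMap.ext fun f => ?_
    ext g
    change f (1⁻¹ * g) = f g
    rw [inv_one, one_mul]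
  map_mul' x y := by
    refine LinearMap.ext fun f => ?_
    ext g
    change f ((x * y)⁻¹ * g) = f (y⁻¹ * (x⁻¹ * g))
    rw [mul_inv_rev, mul_assoc]

/-- the projection on the induced module -/
noncomputable def Ep : (G → M) →ₗ[ℂ] (G → M) where
  toFun f g := (Nat.card P : ℂ)⁻¹ • ∑ p : P, ρ p (f (g * p))
  map_add' f f' := by
    ext g
    change (Nat.card P : ℂ)⁻¹ • ∑ p : P, ρ p (f (g * p) + f' (g * p)) = _ • _ + _ • _
    rw [← smul_add, ← Finset.sum_add_distrib]
    congr 1
    exact Finset.sum_congr rfl fun p _ => map_add _ _ _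
  map_smul' c f := by
    ext g
    change (Nat.card P : ℂ)⁻¹ • ∑ p : P, ρ p (c • f (g * p)) = c • (Nat.card P : ℂ)⁻¹ • ∑ p : P, ρ p (f (g * p))
    have h1 : ∑ p : P, ρ p (c • f (g * p)) = c • ∑ p : P, ρ p (f (g * p)) := by
      rw [Finset.smul_sum]
      exact Finset.sum_congr rfl fun p _ => LinearMap.map_smul (ρ p) c (f (g * p))
    rw [h1, smul_comm]

theorem Ep_apply (f : G → M) (g : G) : Ep P ρ f g = (Nat.card P : ℂ)⁻¹ • ∑ p : P, ρ p (f (g * p)) := rfl

/-- the functions of the induced module -/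
def InV (f : G → M) : Prop := ∀ (g : G) (p : P), ρ p (f (g * p)) = f g

theorem inV_Ep (f : G → M) : InV P ρ (Ep P ρ f) := by
  intro g p
  rw [Ep_apply, Ep_apply, map_smul, map_sum]
  congr 1
  refine Fintype.sum_equiv (Equiv.mulLeft p) _ _ fun p' => ?_
  rw [Equiv.coe_mulLeft, ← Module.End.mul_apply, ← map_mul, mul_assoc]
  rfl

theorem Ep_of_inV {f : G → M} (hf : InV P ρ f) : Ep P ρ f = f := by
  ext g
  rw [Ep_apply, Finset.sum_congr rfl fun (p : P) _ => hf g p, Finset.sum_const, Finset.card_univ,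
    ← Nat.card_eq_fintype_card, ← Nat.cast_smul_eq_nsmul ℂ, smul_smul, inv_mul_cancel₀ card_ne_zero', one_smul]

theorem InV.apply_mul {f : G → M} (hf : InV P ρ f) (g : G) (p : P) : f (g * p) = ρ p⁻¹ (f g) := by
  rw [← hf g p, ← Module.End.mul_apply, ← map_mul, inv_mul_cancel, map_one]
  rfl

theorem Ep_Ep : Ep P ρ * Ep P ρ = Ep P ρ := LinearMap.ext fun f => Ep_of_inV P ρ (inV_Ep P ρ f)

theorem Lt_Ep (x : G) : Lt x * Ep P ρ = Ep P ρ * Lt x := by
  refine LinearMap.ext fun f => ?_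
  ext g
  change (Nat.card P : ℂ)⁻¹ • ∑ p : P, ρ p (f (x⁻¹ * g * p)) = (Nat.card P : ℂ)⁻¹ • ∑ p : P, ρ p (f (x⁻¹ * (g * p)))
  congr 1
  exact Finset.sum_congr rfl fun p _ => by rw [mul_assoc]

theorem trace_Lt_Ep [FiniteDimensional ℂ M] (x : G) :
    LinearMap.trace ℂ _ (Lt x * Ep P ρ) = indFun P ρ.character x := by
  classical
  rw [trace_fun, indFun_apply, Finset.mul_sum]
  refine Finset.sum_congr rfl fun g _ => ?_
  have h : (LinearMap.proj g).comp ((Lt x * Ep P ρ).comp (LinearMap.single ℂ (fun _ => M) g)) =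
      (Nat.card P : ℂ)⁻¹ • ∑ p : P, if (p : G) = g⁻¹ * x * g then ρ p else 0 := by
    refine LinearMap.ext fun m => ?_
    change (Nat.card P : ℂ)⁻¹ • ∑ p : P, ρ p ((Pi.single g m : G → M) (x⁻¹ * g * p)) = _
    rw [LinearMap.smul_apply, LinearMap.sum_apply]
    congr 1
    refine Finset.sum_congr rfl fun p _ => ?_
    have h1 : x⁻¹ * g * p = g ↔ (p : G) = g⁻¹ * x * g := by
      constructor
      · intro h
        rw [← mul_left_cancel_iff (a := x⁻¹ * g), h]
        group
      · intro h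
        rw [h]
        group
    by_cases h2 : (p : G) = g⁻¹ * x * g
    · rw [if_pos h2, h1.2 h2, Pi.single_eq_same]
    · rw [if_neg h2, Pi.single_eq_of_ne (fun h => h2 (h1.1 h)), map_zero]
      rfl
  rw [h, map_smul, map_sum, smul_eq_mul]
  congr 1
  by_cases hx : g⁻¹ * x * g ∈ P
  · rw [ext_apply_mem _ _ _ hx, Finset.sum_eq_single (⟨g⁻¹ * x * g, hx⟩ : P)]
    · rw [if_pos rfl]
      rfl
    · intro p _ hp
      rw [if_neg fun h => hp (Subtype.ext h), map_zero]
    · intro h
      exact absurd (Finset.mem_univ _) h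
  · rw [ext_apply_not_mem _ _ _ hx]
    refine Finset.sum_eq_zero fun p _ => ?_
    rw [if_neg (fun h => hx (by rw [← h]; exact p.2)), map_zero]

/-- the operator `T` -/
noncomputable def Top (U : Subgroup G) [Fintype U] (w : G) : (G → M) →ₗ[ℂ] (G → M) where
  toFun f g := ∑ u : U, f (g * u * w)
  map_add' f f' := by
    ext g
    exact Finset.sum_add_distrib
  map_smul' c f := by
    ext g
    change ∑ u : U, c • f (g * u * w) = c • ∑ u : U, f (g * u * w)
    exact Finset.smul_sum.symm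

theorem Top_apply (U : Subgroup G) [Fintype U] (w : G) (f : G → M) (g : G) :
    Top U w f g = ∑ u : U, f (g * u * w) := rfl

theorem Lt_Top (U : Subgroup G) [Fintype U] (w : G) (x : G) :
    Lt x * (Top U w : (G → M) →ₗ[ℂ] (G → M)) = Top U w * Lt x := by
  refine LinearMap.ext fun f => ?_
  ext g
  change ∑ u : U, f (x⁻¹ * g * u * w) = ∑ u : U, f (x⁻¹ * (g * u * w))
  refine Finset.sum_congr rfl fun u _ => ?_
  simp only [mul_assoc]

/-- the data -/
structure HD (P U : Subgroup G) (w : G) (ρ : Representation ℂ P M) : Prop where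
  le : U ≤ P
  nor : ∀ p ∈ P, ∀ u ∈ U, p * u * p⁻¹ ∈ U
  triv : ∀ u : P, (u : G) ∈ U → ρ u = 1
  big : ∀ p : P, ∃ u ∈ U, ∃ p' : P, (p : G) * w = u * w * p' ∧ ρ p' = ρ p
  ww : ∃ p : P, (p : G) = w * w ∧ ρ p = 1
  van : ∀ x : G, x ∉ P → (¬ ∃ u ∈ U, ∃ p ∈ P, x = u * w * p) →
    ∀ m : M, (∀ v : P, x * v * x⁻¹ ∈ U → ρ v m = m) → m = 0
  opp : ∀ u ∈ U, w * u * w ∈ P → u = 1
  wP : w ∉ P

variable {P ρ} {U : Subgroup G} {w : G}

/-- `ρ(p₁)⁻¹` for `w u w = u₁ w p₁` -/
noncomputable def rr (P : Subgroup G) (ρ : Representation ℂ P M) (U : Subgroup G) (w : G) (u : G) : M →ₗ[ℂ] M := by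
  classical
  exact if h : ∃ p : P, ∃ u₁ ∈ U, w * u * w = u₁ * w * p then ρ (h.choose)⁻¹ else 0

theorem HD.inj (h : HD P U w ρ) {u u' : G} (hu : u ∈ U) (hu' : u' ∈ U) {p p' : G} (hp : p ∈ P) (hp' : p' ∈ P)
    (e : u * w * p = u' * w * p') : u = u' ∧ p = p' := by
  have h1 : w⁻¹ * (u'⁻¹ * u) * w = p' * p⁻¹ := by
    have h2 : u'⁻¹ * (u * w * p) * p⁻¹ = u'⁻¹ * (u' * w * p') * p⁻¹ := by rw [e]
    have h3 : u'⁻¹ * u * w = w * p' * p⁻¹ := by
      calc u'⁻¹ * u * w = u'⁻¹ * (u * w * p) * p⁻¹ := by group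
        _ = u'⁻¹ * (u' * w * p') * p⁻¹ := h2
        _ = w * p' * p⁻¹ := by group
    calc w⁻¹ * (u'⁻¹ * u) * w = w⁻¹ * (u'⁻¹ * u * w) := by group
      _ = w⁻¹ * (w * p' * p⁻¹) := by rw [h3]
      _ = p' * p⁻¹ := by group
  have h4 : w * (u'⁻¹ * u) * w ∈ P := by
    obtain ⟨q, hq, -⟩ := h.ww
    have : w * (u'⁻¹ * u) * w = (w * w) * (w⁻¹ * (u'⁻¹ * u) * w) := by group
    rw [this, h1, ← hq]
    exact P.mul_mem q.2 (P.mul_mem hp' (P.inv_mem hp))
  have h5 := h.opp _ (U.mul_mem (U.inv_mem hu') hu) h4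
  have h6 : u = u' := (inv_mul_eq_one.1 h5).symm
  refine ⟨h6, ?_⟩
  rw [h6] at e
  exact mul_left_cancel e

theorem HD.rr_eq (h : HD P U w ρ) {u u₁ : G} (hu₁ : u₁ ∈ U) (p : P) (e : w * u * w = u₁ * w * p) :
    rr P ρ U w u = ρ p⁻¹ := by
  classical
  have hx : ∃ p : P, ∃ u₁ ∈ U, w * u * w = u₁ * w * p := ⟨p, u₁, hu₁, e⟩
  unfold rr
  rw [dif_pos hx]
  obtain ⟨u₂, hu₂, e₂⟩ := hx.choose_spec
  have := (h.inj hu₂ hu₁ hx.choose.2 p.2 (e₂.symm.trans e)).2
  rw [Subtype.ext this]

theorem HD.inV_Top (h : HD P U w ρ) [Fintype U] {f : G → M} (hf : InV P ρ f) : InV P ρ (Top U w f) := by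
  intro g p
  rw [Top_apply, Top_apply, map_sum]
  obtain ⟨u₀, hu₀, p', e, e'⟩ := h.big p
  -- `u ↦ p u p⁻¹ u₀`
  let φ : U ≃ U :=
    { toFun := fun u => ⟨p * u * (p : G)⁻¹ * u₀, U.mul_mem (h.nor p p.2 u u.2) hu₀⟩
      invFun := fun u => ⟨(p : G)⁻¹ * (u * u₀⁻¹) * p, by
        have := h.nor (p : G)⁻¹ (P.inv_mem p.2) (u * u₀⁻¹) (U.mul_mem u.2 (U.inv_mem hu₀))
        rwa [inv_inv] at this⟩
      left_inv := fun u => by
        apply Subtype.ext
        change (p : G)⁻¹ * (p * u * (p : G)⁻¹ * u₀ * u₀⁻¹) * p = u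
        group
      right_inv := fun u => by
        apply Subtype.ext
        change (p : G) * ((p : G)⁻¹ * (u * u₀⁻¹) * p) * (p : G)⁻¹ * u₀ = u
        group }
  refine Fintype.sum_equiv φ _ _ fun u => ?_
  change ρ p (f (g * p * u * w)) = f (g * (p * u * (p : G)⁻¹ * u₀) * w)
  have h1 : g * p * u * w = g * (p * u * (p : G)⁻¹ * u₀) * w * p' := by
    calc g * p * u * w = g * (p * u * (p : G)⁻¹) * (p * w) := by group
      _ = g * (p * u * (p : G)⁻¹) * (u₀ * w * p') := by rw [e]
      _ = _ := by group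
  rw [h1, ← e']
  exact hf _ p'

theorem HD.sum_u (h : HD P U w ρ) [Fintype U] {f : G → M} (hf : InV P ρ f) (g : G) :
    ∑ u : U, f (g * u) = (Nat.card U : ℂ) • f g := by
  have h1 : ∀ u : U, f (g * u) = f g := by
    intro u
    have h2 := hf.apply_mul P ρ g ⟨u, h.le u.2⟩
    rw [h.triv _ (by exact U.inv_mem u.2)] at h2
    exact h2
  rw [Finset.sum_congr rfl fun u _ => h1 u, Finset.sum_const, Finset.card_univ, ← Nat.card_eq_fintype_card,
    Nat.cast_smul_eq_nsmul]

/-- **`T² = (∑ u, ρ(p₁(u))⁻¹) T + |U|`** -/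
theorem HD.Top_Top (h : HD P U w ρ) [Fintype U] {f : G → M} (hf : InV P ρ f) (g : G) :
    Top U w (Top U w f) g = (Nat.card U : ℂ) • f g + (∑ u : U, rr P ρ U w u) (Top U w f g) := by
  classical
  have h0 : Top U w (Top U w f) g = ∑ u' : U, ∑ u : U, f (g * u * (w * u' * w)) := by
    rw [Top_apply, Finset.sum_comm]
    refine Finset.sum_congr rfl fun u _ => ?_
    rw [Top_apply]
    refine Finset.sum_congr rfl fun u' _ => ?_
    congr 1
    group
  have key : ∀ u' : U, ∑ u : U, f (g * u * (w * u' * w)) =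
      (if u' = 1 then (Nat.card U : ℂ) • f g else 0) + rr P ρ U w u' (Top U w f g) := by
    intro u'
    by_cases h1 : u' = 1
    · -- `u' = 1`
      have h3 : rr P ρ U w u' = 0 := by
        unfold rr
        rw [dif_neg]
        rintro ⟨p, u₁, hu₁, e⟩
        rw [h1] at e
        obtain ⟨q, hq, -⟩ := h.ww
        have hq' : w * w = q := hq.symm
        have e2 : w = u₁⁻¹ * (w * w) * (p : G)⁻¹ := by
          have : w * w = u₁ * w * p := by simpa using e
          rw [this]; group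
        apply h.wP
        rw [e2, hq']
        exact P.mul_mem (P.mul_mem (P.inv_mem (h.le hu₁)) q.2) (P.inv_mem p.2)
      rw [if_pos h1, h3, LinearMap.zero_apply, add_zero, ← h.sum_u hf]
      refine Finset.sum_congr rfl fun u _ => ?_
      obtain ⟨q, hq, hq1⟩ := h.ww
      have e3 : g * u * (w * u' * w) = g * u * q := by
        rw [h1, hq, OneMemClass.coe_one, mul_one]
      rw [e3, hf.apply_mul P ρ, map_inv_of_one hq1]
      rfl
    · rw [if_neg h1, zero_add]
      by_cases hB : ∃ p : P, ∃ u₁ ∈ U, w * u' * w = u₁ * w * p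
      · obtain ⟨p, u₁, hu₁, e⟩ := hB
        rw [h.rr_eq hu₁ p e, Top_apply, map_sum]
        refine Fintype.sum_equiv (Equiv.mulRight (⟨u₁, hu₁⟩ : U)) _ _ fun u => ?_
        change f (g * u * (w * u' * w)) = ρ p⁻¹ (f (g * (u * u₁) * w))
        rw [← hf.apply_mul P ρ, e]
        congr 1
        group
      · have h3 : rr P ρ U w u' = 0 := by
          unfold rr
          rw [dif_neg hB]
        rw [h3, LinearMap.zero_apply]
        refine h.van (w * u' * w) (fun hP => h1 (Subtype.ext (h.opp u' u'.2 hP)))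
          (fun ⟨u₁, hu₁, p, hp, e⟩ => hB ⟨⟨p, hp⟩, u₁, hu₁, e⟩) _ fun v hv => ?_
        have e4 : ∑ u : U, f (g * u * (w * u' * w)) =
            ∑ u : U, f (g * (u * ((w * u' * w) * v * (w * u' * w)⁻¹)) * (w * u' * w)) :=
          (Fintype.sum_equiv (Equiv.mulRight (⟨_, hv⟩ : U)) _ _ fun u => rfl).symm
        conv_lhs => rw [e4, map_sum]
        refine Finset.sum_congr rfl fun u _ => ?_
        have e5 : g * (u * ((w * u' * w) * v * (w * u' * w)⁻¹)) * (w * u' * w) = g * u * (w * u' * w) * v := by group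
        rw [e5]
        exact hf _ v
  rw [h0, Finset.sum_congr rfl fun u' _ => key u', Finset.sum_add_distrib, LinearMap.sum_apply]
  congr 1
  rw [Finset.sum_ite_eq' Finset.univ (1 : U) (fun _ => (Nat.card U : ℂ) • f g), if_pos (Finset.mem_univ _)]

theorem HD.trace_Top (h : HD P U w ρ) [Fintype U] [FiniteDimensional ℂ M] :
    LinearMap.trace ℂ _ (Top U w * Ep P ρ) = 0 := by
  classical
  rw [trace_fun]
  refine Finset.sum_eq_zero fun g _ => ?_
  have h0 : (LinearMap.proj g).comp ((Top U w * Ep P ρ).comp (LinearMap.single ℂ (fun _ => M) g)) = 0 := by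
    refine LinearMap.ext fun m => ?_
    change ∑ u : U, ((Nat.card P : ℂ)⁻¹ • ∑ p : P, ρ p ((Pi.single g m : G → M) (g * u * w * p))) = 0
    refine Finset.sum_eq_zero fun u _ => ?_
    rw [Finset.sum_eq_zero, smul_zero]
    intro p _
    rw [Pi.single_eq_of_ne, map_zero]
    intro e
    apply h.wP
    have : w = (u : G)⁻¹ * (p : G)⁻¹ := by
      calc w = (u : G)⁻¹ * g⁻¹ * (g * u * w * p) * (p : G)⁻¹ := by group
        _ = (u : G)⁻¹ * g⁻¹ * g * (p : G)⁻¹ := by rw [e]
        _ = _ := by group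
    rw [this]
    exact P.mul_mem (P.inv_mem (h.le u.2)) (P.inv_mem p.2)
  rw [h0, map_zero]

/-! ### the norm -/

theorem character_mul_of_one {P : Type u} [Group P] {M : Type v} [AddCommGroup M] [Module ℂ M]
    {ρ : Representation ℂ P M} {u : P} (h : ρ u = 1) (p : P) : ρ.character (u * p) = ρ.character p := by
  unfold Representation.character
  rw [map_mul, h, one_mul]

theorem HD.char_w (h : HD P U w ρ) (t : P) (ht : w⁻¹ * (t : G) * w ∈ P) :
    ρ.character ⟨w⁻¹ * (t : G) * w, ht⟩ = ρ.character t := by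
  obtain ⟨u, hu, p', e, e'⟩ := h.big t
  have h1 : u * w * p' = 1 * w * (⟨w⁻¹ * (t : G) * w, ht⟩ : P) := by
    rw [← e]
    change (t : G) * w = 1 * w * (w⁻¹ * (t : G) * w)
    group
  obtain ⟨-, h2⟩ := h.inj hu U.one_mem p'.2 (⟨w⁻¹ * (t : G) * w, ht⟩ : P).2 h1
  have h3 : p' = ⟨w⁻¹ * (t : G) * w, ht⟩ := Subtype.ext h2
  rw [← h3]
  unfold Representation.character
  rw [e']

theorem HD.twist_big (h : HD P U w ρ) [FiniteDimensional ℂ M] {u p : G} (hu : u ∈ U) (hp : p ∈ P) :
    twist P ρ.character ρ.character (u * w * p) = twist P ρ.character ρ.character w := by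
  have hcf : IsClassFunction P ρ.character := Core.isCharacter_isClassFunction (Core.isCharacter_of_rep ρ)
  have hext : ∀ y : G, extendByZero P ρ.character (p⁻¹ * y * p) = extendByZero P ρ.character y := by
    intro y
    by_cases hy : y ∈ P
    · rw [ext_apply_mem _ _ _ hy, ext_apply_mem _ _ _ (P.mul_mem (P.mul_mem (P.inv_mem hp) hy) hp)]
      have := hcf ⟨y, hy⟩ (⟨p, hp⟩⁻¹ : P)
      rw [← this]
      congr 1
      apply Subtype.ext
      change p⁻¹ * y * p = p⁻¹ * y * p⁻¹⁻¹
      rw [inv_inv]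
    · rw [ext_apply_not_mem _ _ _ hy, ext_apply_not_mem]
      intro h'
      apply hy
      have := P.mul_mem (P.mul_mem hp h') (P.inv_mem hp)
      have e : p * (p⁻¹ * y * p) * p⁻¹ = y := by group
      rwa [e] at this
  rw [twist_def, twist_def]
  have hu' : u ∈ P := h.le hu
  refine (Fintype.sum_equiv (MulAut.conj (⟨u, hu'⟩ : P)).toEquiv _ _ fun t => ?_).symm
  change ρ.character t * conj (extendByZero P ρ.character (w⁻¹ * t * w)) =
    ρ.character ((⟨u, hu'⟩ : P) * t * (⟨u, hu'⟩ : P)⁻¹) *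
      conj (extendByZero P ρ.character ((u * w * p)⁻¹ * (u * t * u⁻¹) * (u * w * p)))
  rw [hcf]
  congr 2
  have e : (u * w * p)⁻¹ * (u * t * u⁻¹) * (u * w * p) = p⁻¹ * (w⁻¹ * t * w) * p := by group
  rw [e, hext]

open Classical in
theorem HD.card_twist (h : HD P U w ρ) [Fintype U] [FiniteDimensional ℂ M] (hirr : IsIrrCharacter P ρ.character) :
    (Nat.card U : ℂ) * twist P ρ.character ρ.character w = Nat.card P := by
  have h1 : twist P ρ.character ρ.character w =
      ∑ t : {t : P // w⁻¹ * (t : G) * w ∈ P}, ρ.character t * conj (ρ.character t) := by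
    rw [twist_def]
    rw [← Finset.sum_subtype (Finset.univ.filter fun t : P => w⁻¹ * (t : G) * w ∈ P) (fun t => by simp)
      (fun t : P => ρ.character t * conj (ρ.character t)), Finset.sum_filter]
    refine Finset.sum_congr rfl fun t _ => ?_
    split_ifs with ht
    · rw [ext_apply_mem _ _ _ ht, h.char_w t ht]
    · rw [ext_apply_not_mem _ _ _ ht, map_zero, mul_zero]
  have h2 := Core.classInner_irr_self hirr
  rw [Core.classInner_def] at h2
  have h3 : ∑ p : P, ρ.character p * conj (ρ.character p) = Nat.card P := by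
    have h0 : (Nat.card P : ℂ) ≠ 0 := Core.card_ne_zero_complex
    rw [← mul_one (Nat.card P : ℂ), ← h2, ← mul_assoc, mul_inv_cancel₀ h0, one_mul]
  let φ : U × {t : P // w⁻¹ * (t : G) * w ∈ P} → P := fun x => ⟨x.1, h.le x.1.2⟩ * x.2
  have hφ : Function.Bijective φ := by
    constructor
    · rintro ⟨u, t, ht⟩ ⟨u', t', ht'⟩ e
      have e1 : (u : G) * t = u' * t' := congrArg (Subtype.val) e
      have e2 : (u : G) * w * (w⁻¹ * (t : G) * w) = u' * w * (w⁻¹ * (t' : G) * w) := by
        calc (u : G) * w * (w⁻¹ * (t : G) * w) = (u * t) * w := by group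
          _ = (u' * t') * w := by rw [e1]
          _ = _ := by group
      obtain ⟨e3, e4⟩ := h.inj u.2 u'.2 ht ht' e2
      have e5 : u = u' := Subtype.ext e3
      have e6 : (t : G) = t' := by
        rw [e3] at e1
        exact mul_left_cancel e1
      have e7 : t = t' := Subtype.ext e6
      subst e5; subst e7
      rfl
    · intro p
      obtain ⟨u, hu, p', e, -⟩ := h.big p
      have e1 : (u : G)⁻¹ * p = w * p' * w⁻¹ := by
        calc (u : G)⁻¹ * p = u⁻¹ * (p * w) * w⁻¹ := by group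
          _ = u⁻¹ * (u * w * p') * w⁻¹ := by rw [e]
          _ = _ := by group
      refine ⟨⟨⟨u, hu⟩, ⟨⟨u, h.le hu⟩⁻¹ * p, ?_⟩⟩, ?_⟩
      · change w⁻¹ * (u⁻¹ * (p : G)) * w ∈ P
        rw [e1]
        have : w⁻¹ * (w * (p' : G) * w⁻¹) * w = p' := by group
        rw [this]
        exact p'.2
      · apply Subtype.ext
        change u * (u⁻¹ * (p : G)) = p
        group
  rw [h1, ← h3, ← (Equiv.ofBijective φ hφ).sum_comp, Fintype.sum_prod_type]
  have h4 : ∀ u : U, ∑ t : {t : P // w⁻¹ * (t : G) * w ∈ P}, ρ.character (Equiv.ofBijective φ hφ (u, t)) *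
      conj (ρ.character (Equiv.ofBijective φ hφ (u, t))) =
      ∑ t : {t : P // w⁻¹ * (t : G) * w ∈ P}, ρ.character t * conj (ρ.character t) := by
    intro u
    refine Finset.sum_congr rfl fun t _ => ?_
    have : ρ.character (Equiv.ofBijective φ hφ (u, t)) = ρ.character t :=
      character_mul_of_one (h.triv ⟨u, h.le u.2⟩ u.2) _
    rw [this]
  rw [Finset.sum_congr rfl fun u _ => h4 u, Finset.sum_const, Finset.card_univ, ← Nat.card_eq_fintype_card,
    nsmul_eq_mul]

theorem HD.twist_van (h : HD P U w ρ) [Fintype U] [FiniteDimensional ℂ M] {x : G} (hx : x ∉ P)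
    (hx' : ¬ ∃ u ∈ U, ∃ p ∈ P, x = u * w * p) : twist P ρ.character ρ.character x = 0 := by
  classical
  have hx1 : x⁻¹ ∉ P := fun h' => hx (by simpa using P.inv_mem h')
  have hx2 : ¬ ∃ u ∈ U, ∃ p ∈ P, x⁻¹ = u * w * p := by
    rintro ⟨u, hu, p, hp, e⟩
    apply hx'
    obtain ⟨q, hq, -⟩ := h.ww
    -- `x = p⁻¹ w⁻¹ u⁻¹ = p⁻¹ w (w w)⁻¹ u⁻¹`
    obtain ⟨u₂, hu₂, p₂, e₂, -⟩ := h.big (⟨p, hp⟩⁻¹ : P)
    have e2' : p⁻¹ * w = u₂ * w * p₂ := e₂
    refine ⟨u₂, hu₂, p₂ * ((q : G)⁻¹ * u⁻¹), P.mul_mem p₂.2 (P.mul_mem (P.inv_mem q.2) (P.inv_mem (h.le hu))), ?_⟩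
    calc x = (x⁻¹)⁻¹ := (inv_inv x).symm
      _ = (u * w * p)⁻¹ := by rw [e]
      _ = (p⁻¹ * w) * ((w * w)⁻¹ * u⁻¹) := by group
      _ = (u₂ * w * p₂) * ((q : G)⁻¹ * u⁻¹) := by rw [e2', hq]
      _ = _ := by group
  let L : Subgroup G := P ⊓ (U.comap (MulAut.conj x⁻¹).toMonoidHom)
  have hL : ∀ l : G, l ∈ L ↔ l ∈ P ∧ x⁻¹ * l * x ∈ U := by
    intro l
    change l ∈ P ∧ x⁻¹ * l * x⁻¹⁻¹ ∈ U ↔ _
    rw [inv_inv]
  let _ : Fintype L := Fintype.ofFinite _
  have hchar := Core.isCharacter_of_rep ρ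
  refine Cfsg.Agent.H53.HC.twist_eq_zero_of_sub P hchar hchar x L (fun l hl => ((hL l).1 hl).1)
    (fun l hl => h.le ((hL l).1 hl).2) ?_
  have h1 : ∀ l : L, ρ.character ⟨l, ((hL l).1 l.2).1⟩ *
      conj (ρ.character ⟨x⁻¹ * l * x, h.le ((hL l).1 l.2).2⟩) =
      ρ.character ⟨l, ((hL l).1 l.2).1⟩ * conj (ρ.character 1) := by
    intro l
    congr 2
    change LinearMap.trace ℂ M (ρ _) = LinearMap.trace ℂ M (ρ 1)
    rw [h.triv _ ((hL l).1 l.2).2, map_one ρ]
  rw [Finset.sum_congr rfl fun l _ => h1 l, ← Finset.sum_mul]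
  have h2 : ∑ l : L, ρ ⟨l, ((hL l).1 l.2).1⟩ = 0 := by
    refine LinearMap.ext fun m => ?_
    refine h.van x⁻¹ hx1 hx2 _ fun v hv => ?_
    rw [inv_inv] at hv
    rw [LinearMap.sum_apply, map_sum]
    have hvL : (v : G) ∈ L := (hL v).2 ⟨v.2, hv⟩
    refine Fintype.sum_equiv (Equiv.mulLeft (⟨v, hvL⟩ : L)) _ _ fun l => ?_
    rw [← Module.End.mul_apply, ← map_mul]
    rfl
  have h3 : ∑ l : L, ρ.character ⟨l, ((hL l).1 l.2).1⟩ = 0 := by
    have := congrArg (LinearMap.trace ℂ M) h2
    rw [map_sum, map_zero] at this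
    exact this
  rw [h3, zero_mul]

theorem HD.norm_two (h : HD P U w ρ) [Fintype U] [FiniteDimensional ℂ M] (hirr : IsIrrCharacter P ρ.character) :
    classInner (indFun P ρ.character) (indFun P ρ.character) = 2 := by
  classical
  rw [classInner_indFun_indFun]
  let φ : U × P → G := fun x => x.1 * w * x.2
  have hφ : Function.Injective φ := by
    rintro ⟨u, p⟩ ⟨u', p'⟩ e
    obtain ⟨e1, e2⟩ := h.inj u.2 u'.2 p.2 p'.2 e
    rw [Subtype.ext e1, Subtype.ext e2]
  have hφP : ∀ x, φ x ∉ P := by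
    rintro ⟨u, p⟩ hP
    apply h.wP
    have : w = (u : G)⁻¹ * (u * w * p) * (p : G)⁻¹ := by group
    rw [this]
    exact P.mul_mem (P.mul_mem (P.inv_mem (h.le u.2)) hP) (P.inv_mem p.2)
  have h0 : (Nat.card P : ℂ) ≠ 0 := card_ne_zero'
  have h1 : ∑ x : G, twist P ρ.character ρ.character x =
      ∑ x : G, (if x ∈ P then twist P ρ.character ρ.character x else 0) +
        ∑ x : G, (if x ∈ Set.range φ then twist P ρ.character ρ.character x else 0) := by
    rw [← Finset.sum_add_distrib]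
    refine Finset.sum_congr rfl fun x _ => ?_
    by_cases hx : x ∈ P
    · rw [if_pos hx, if_neg, add_zero]
      rintro ⟨y, rfl⟩
      exact hφP y hx
    · rw [if_neg hx, zero_add]
      split_ifs with hx'
      · rfl
      · refine h.twist_van hx ?_
        rintro ⟨u, hu, p, hp, rfl⟩
        exact hx' ⟨(⟨u, hu⟩, ⟨p, hp⟩), rfl⟩
  have h2 : ∑ x : G, (if x ∈ P then twist P ρ.character ρ.character x else 0) = (Nat.card P : ℂ) * Nat.card P := by
    rw [sum_eq_sum_subgroup P _ (fun g hg => if_neg hg)]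
    have : ∀ x : P, (if (x : G) ∈ P then twist P ρ.character ρ.character x else 0) = (Nat.card P : ℂ) := by
      intro x
      rw [if_pos x.2, twist_of_mem P _ _ (Core.isIrr_isClassFunction hirr) _ x.2, Core.classInner_irr_self hirr,
        mul_one]
    rw [Finset.sum_congr rfl fun x _ => this x, Finset.sum_const, Finset.card_univ, ← Nat.card_eq_fintype_card,
      nsmul_eq_mul]
  have h3 : ∑ x : G, (if x ∈ Set.range φ then twist P ρ.character ρ.character x else 0) =
      (Nat.card P : ℂ) * Nat.card P := by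
    rw [← Fintype.sum_of_injective φ hφ (fun _ => twist P ρ.character ρ.character w)
      (fun x => if x ∈ Set.range φ then twist P ρ.character ρ.character x else 0) (fun x hx => if_neg hx)
      (fun x => by
        rw [if_pos ⟨x, rfl⟩]
        exact (h.twist_big x.1.2 x.2.2).symm)]
    rw [Finset.sum_const, Finset.card_univ, Fintype.card_prod, ← Nat.card_eq_fintype_card,
      ← Nat.card_eq_fintype_card, nsmul_eq_mul, Nat.cast_mul]
    rw [← h.card_twist hirr]
    ring
  rw [h1, h2, h3]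
  field_simp
  ring

/-- **The two constituents.** -/
theorem HD.exists_chars (h : HD P U w ρ) [Fintype U] [FiniteDimensional ℂ M] (hirr : IsIrrCharacter P ρ.character)
    {A lam mu : ℂ} (hA : ∑ u : U, rr P ρ U w u = A • (1 : M →ₗ[ℂ] M)) (h1 : lam + mu = A)
    (h2 : lam * mu = -(Nat.card U : ℂ)) (hne : lam ≠ mu) :
    ∃ χ₁ χ₂ : G → ℂ, IsIrrCharacter G χ₁ ∧ IsIrrCharacter G χ₂ ∧
      (lam - mu) * χ₁ 1 = -mu * ((P.index : ℂ) * ρ.character 1) ∧
      (lam - mu) * χ₂ 1 = lam * ((P.index : ℂ) * ρ.character 1) ∧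
      ∀ z : P, (∀ g : G, g * z = z * g) → ρ z = 1 → χ₁ z = χ₁ 1 ∧ χ₂ z = χ₂ 1 := by
  classical
  have hU : (Nat.card U : ℂ) ≠ 0 := card_ne_zero'
  have hlam : lam ≠ 0 := by
    rintro rfl
    rw [zero_mul] at h2
    exact hU (neg_eq_zero.1 h2.symm)
  have hmu : mu ≠ 0 := by
    rintro rfl
    rw [mul_zero] at h2
    exact hU (neg_eq_zero.1 h2.symm)
  have hd : lam - mu ≠ 0 := sub_ne_zero.2 hne
  let E := Ep P ρ
  let T := Top U w * Ep P ρ
  have hEE : E * E = E := Ep_Ep P ρ
  have hET : E * T = T := LinearMap.ext fun f => Ep_of_inV P ρ (h.inV_Top (inV_Ep P ρ f))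
  have hTE : T * E = T := by
    change Top U w * Ep P ρ * Ep P ρ = Top U w * Ep P ρ
    rw [mul_assoc, Ep_Ep]
  have hTT : T * T = A • T + (Nat.card U : ℂ) • E := by
    refine LinearMap.ext fun f => ?_
    have hf := inV_Ep P ρ f
    change Top U w (Ep P ρ (Top U w (Ep P ρ f))) = A • Top U w (Ep P ρ f) + (Nat.card U : ℂ) • Ep P ρ f
    rw [Ep_of_inV P ρ (h.inV_Top hf)]
    ext g
    rw [h.Top_Top hf, hA, add_comm]
    rfl
  have hLE : ∀ g : G, Lt g * E = E * Lt g := Lt_Ep P ρ
  have hLT : ∀ g : G, Lt g * T = T * Lt g := by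
    intro g
    change Lt g * (Top U w * Ep P ρ) = Top U w * Ep P ρ * Lt g
    rw [← mul_assoc, Lt_Top, mul_assoc, Lt_Ep, mul_assoc]
  let π₁ : (G → M) →ₗ[ℂ] (G → M) := (lam - mu)⁻¹ • (T - mu • E)
  let π₂ : (G → M) →ₗ[ℂ] (G → M) := (lam - mu)⁻¹ • (lam • E - T)
  have hA' : A = lam + mu := h1.symm
  have hU' : (Nat.card U : ℂ) = -(lam * mu) := by rw [h2, neg_neg]
  have i1 : (T - mu • E) * (T - mu • E) = (lam - mu) • (T - mu • E) := by
    rw [sub_mul, mul_sub, mul_sub, hTT, smul_mul_assoc, smul_mul_assoc, mul_smul_comm, mul_smul_comm, hET, hTE, hEE,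
      hA', hU']
    module
  have i2 : (lam • E - T) * (lam • E - T) = (lam - mu) • (lam • E - T) := by
    rw [sub_mul, mul_sub, mul_sub, hTT, smul_mul_assoc, smul_mul_assoc, mul_smul_comm, mul_smul_comm, hET, hTE, hEE,
      hA', hU']
    module
  have p1 : π₁ * π₁ = π₁ := by
    change ((lam - mu)⁻¹ • (T - mu • E)) * ((lam - mu)⁻¹ • (T - mu • E)) = (lam - mu)⁻¹ • (T - mu • E)
    rw [smul_mul_smul_comm, i1, smul_smul]
    congr 1
    field_simp
  have p2 : π₂ * π₂ = π₂ := by
    change ((lam - mu)⁻¹ • (lam • E - T)) * ((lam - mu)⁻¹ • (lam • E - T)) = (lam - mu)⁻¹ • (lam • E - T)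
    rw [smul_mul_smul_comm, i2, smul_smul]
    congr 1
    field_simp
  have c1 : ∀ g : G, Lt g * π₁ = π₁ * Lt g := by
    intro g
    change Lt g * ((lam - mu)⁻¹ • (T - mu • E)) = ((lam - mu)⁻¹ • (T - mu • E)) * Lt g
    rw [mul_smul_comm, smul_mul_assoc, mul_sub, sub_mul, mul_smul_comm, smul_mul_assoc, hLE, hLT]
  have c2 : ∀ g : G, Lt g * π₂ = π₂ * Lt g := by
    intro g
    change Lt g * ((lam - mu)⁻¹ • (lam • E - T)) = ((lam - mu)⁻¹ • (lam • E - T)) * Lt g
    rw [mul_smul_comm, smul_mul_assoc, mul_sub, sub_mul, mul_smul_comm, smul_mul_assoc, hLE, hLT]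
  have k1 := isCharacter_idem (Lt : Representation ℂ G (G → M)) π₁ p1 c1
  have k2 := isCharacter_idem (Lt : Representation ℂ G (G → M)) π₂ p2 c2
  set χ₁ : G → ℂ := fun g => LinearMap.trace ℂ _ (Lt g * π₁) with hχ₁
  set χ₂ : G → ℂ := fun g => LinearMap.trace ℂ _ (Lt g * π₂) with hχ₂
  have hsum : π₁ + π₂ = E := by
    change (lam - mu)⁻¹ • (T - mu • E) + (lam - mu)⁻¹ • (lam • E - T) = E
    rw [← smul_add]
    have : T - mu • E + (lam • E - T) = (lam - mu) • E := by module
    rw [this, smul_smul, inv_mul_cancel₀ hd, one_smul]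
  have hs : χ₁ + χ₂ = indFun P ρ.character := by
    ext g
    rw [← trace_Lt_Ep]
    change LinearMap.trace ℂ _ (Lt g * π₁) + LinearMap.trace ℂ _ (Lt g * π₂) = LinearMap.trace ℂ _ (Lt g * E)
    rw [← map_add, ← mul_add, hsum]
  have hL1 : (Lt (1 : G) : (G → M) →ₗ[ℂ] (G → M)) = 1 := map_one _
  have htE : LinearMap.trace ℂ _ E = (P.index : ℂ) * ρ.character 1 := by
    have h3 := trace_Lt_Ep P ρ 1
    rw [hL1, one_mul, Cfsg.Agent.H53.HC.indFun_one] at h3
    exact h3
  have htT : LinearMap.trace ℂ _ T = 0 := h.trace_Top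
  have d1 : (lam - mu) * χ₁ 1 = -mu * ((P.index : ℂ) * ρ.character 1) := by
    change (lam - mu) * LinearMap.trace ℂ _ (Lt (1 : G) * ((lam - mu)⁻¹ • (T - mu • E))) = _
    rw [hL1, one_mul, map_smul, map_sub, map_smul, htE, htT, smul_eq_mul, smul_eq_mul, ← mul_assoc,
      mul_inv_cancel₀ hd, one_mul]
    ring
  have d2 : (lam - mu) * χ₂ 1 = lam * ((P.index : ℂ) * ρ.character 1) := by
    change (lam - mu) * LinearMap.trace ℂ _ (Lt (1 : G) * ((lam - mu)⁻¹ • (lam • E - T))) = _
    rw [hL1, one_mul, map_smul, map_sub, map_smul, htE, htT, smul_eq_mul, smul_eq_mul, ← mul_assoc,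
      mul_inv_cancel₀ hd, one_mul]
    ring
  have hD : (P.index : ℂ) * ρ.character 1 ≠ 0 :=
    mul_ne_zero (Nat.cast_ne_zero.2 P.index_ne_zero_of_finite) (Core.isIrr_apply_one_ne_zero hirr)
  have n1 : χ₁ ≠ 0 := by
    intro h0
    rw [h0, Pi.zero_apply, mul_zero] at d1
    exact mul_ne_zero (neg_ne_zero.2 hmu) hD d1.symm
  have n2 : χ₂ ≠ 0 := by
    intro h0
    rw [h0, Pi.zero_apply, mul_zero] at d2
    exact mul_ne_zero hlam hD d2.symm
  obtain ⟨r1, r2⟩ := isIrr_of_norm_two k1 k2 n1 n2 (by rw [hs]; exact h.norm_two hirr)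
  refine ⟨χ₁, χ₂, r1, r2, d1, d2, fun z hz hz1 => ?_⟩
  have hLE1 : Lt (z : G) * E = E := by
    refine LinearMap.ext fun f => ?_
    have hf := inV_Ep P ρ f
    ext g
    change Ep P ρ f ((z : G)⁻¹ * g) = Ep P ρ f g
    have e1 : (z : G)⁻¹ * g = g * (z⁻¹ : P) := by
      have := hz g
      calc (z : G)⁻¹ * g = (z : G)⁻¹ * (g * z) * (z : G)⁻¹ := by group
        _ = (z : G)⁻¹ * (z * g) * (z : G)⁻¹ := by rw [this]
        _ = g * (z⁻¹ : P) := by
          change _ = g * (z : G)⁻¹
          group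
    rw [e1, hf.apply_mul P ρ, inv_inv, hz1]
    rfl
  have hLT1 : Lt (z : G) * T = T := by rw [← hET, ← mul_assoc, hLE1]
  have hP1 : Lt (z : G) * π₁ = π₁ := by
    change Lt (z : G) * ((lam - mu)⁻¹ • (T - mu • E)) = (lam - mu)⁻¹ • (T - mu • E)
    rw [mul_smul_comm, mul_sub, mul_smul_comm, hLE1, hLT1]
  have hP2 : Lt (z : G) * π₂ = π₂ := by
    change Lt (z : G) * ((lam - mu)⁻¹ • (lam • E - T)) = (lam - mu)⁻¹ • (lam • E - T)
    rw [mul_smul_comm, mul_sub, mul_smul_comm, hLE1, hLT1]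
  constructor
  · change LinearMap.trace ℂ _ (Lt (z : G) * π₁) = LinearMap.trace ℂ _ (Lt (1 : G) * π₁)
    rw [hP1, hL1, one_mul]
  · change LinearMap.trace ℂ _ (Lt (z : G) * π₂) = LinearMap.trace ℂ _ (Lt (1 : G) * π₂)
    rw [hP2, hL1, one_mul]

end Machine

end Cfsg.Agent.H477.HC
end
end
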