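import Cfsg.Agent.H53.HC.Exc
import Cfsg.Agent.H33.IM
import Cfsg.Agent.H671.H5Facts
import Cfsg.Agent.Prune
set_option linter.all false
prune_inst 0x7f00000000000000000000000000000000000000000000000000000000000000000000000000000000000000000000000000000000000000000000000000000000000000000000000000000000000000003fffffffffffffffffffffffffffbeffbdffffffff
open scoped Cfsg.Agent.FastGrp

/-!
# Consequences of a big character

`Big r S` : some irreducible character of `S` has degree divisible by every prime divisor of `|S|` other than `r`.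
* `Big.im` : `IM ℓ S` for `ℓ ≠ r`;
* `Big.adj` : the primes other than `r` are pairwise adjacent;
* `Big.ind` : among three primes two are adjacent;
* `Big.tri` : a triangle, if `|S|` has three prime divisors other than `r`;
* `Big.conn` : the degree graph is connected if `r` is adjacent to some prime.
-/

set_option autoImplicit false

open Cfsg

namespace Cfsg.Agent.H53.HC

variable {r : ℕ} {S : Type*} [Group S]

theorem Big.of_equiv {S' : Type*} [Group S'] (e : S ≃* S') (h : Big r S') : Big r S := by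
  obtain ⟨χ, hχ, N, hN, hd⟩ := h
  refine ⟨χ ∘ e, Cfsg.Agent.Characters.Core.isIrr_comp e.toMonoidHom e.surjective hχ, N, ?_, fun ℓ hℓ h1 h2 => ?_⟩
  · rw [Function.comp_apply, map_one, hN]
  · rw [Nat.card_congr e.toEquiv] at h1
    exact hd ℓ hℓ h1 h2

theorem BigF.of_equiv {q : ℕ} {S' : Type*} [Group S'] (e : S ≃* S') (h : BigF r q S') : BigF r q S := by
  obtain ⟨χ, hχ, N, hN, hd, h4⟩ := h
  refine ⟨χ ∘ e, Cfsg.Agent.Characters.Core.isIrr_comp e.toMonoidHom e.surjective hχ, N, ?_, fun ℓ hℓ h1 h2 => ?_, h4⟩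
  · rw [Function.comp_apply, map_one, hN]
  · rw [Nat.card_congr e.toEquiv] at h1
    exact hd ℓ hℓ h1 h2

/-- for odd `q` the degree is divisible by `16` -/
theorem BigF.sixteen {q : ℕ} (h : BigF r q S) (hq : Odd q) : H33.IM 16 S := by
  obtain ⟨χ, hχ, N, hN, -, h4⟩ := h
  refine H33.IM.of_apply_one hχ hN ?_
  have h1 : 16 ∣ (q - 1) * (q ^ 2 - 1) := by
    obtain ⟨k, rfl⟩ := hq
    have e1 : 2 * k + 1 - 1 = 2 * k := by omega
    have e2 : (2 * k + 1) ^ 2 - 1 = 4 * (k * (k + 1)) := by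
      have : (2 * k + 1) ^ 2 = 4 * (k * (k + 1)) + 1 := by ring
      omega
    obtain ⟨c, hc⟩ := Nat.even_mul_succ_self k
    rw [e1, e2, hc]
    exact ⟨k * c, by ring⟩
  have h2 : 16 ∣ 3 * N := h1.trans h4
  exact (Nat.Coprime.dvd_of_dvd_mul_left (by norm_num) h2)

theorem BigF.four {q : ℕ} (h : BigF r q S) (hq : Odd q) : H33.IM 4 S := by
  obtain ⟨χ, hχ⟩ := h.sixteen hq
  exact ⟨χ, (by norm_num : (4 : ℕ) ∣ 16).trans hχ⟩

/-- the big character as an `IrrCharacter` -/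
theorem Big.exists_irr (h : Big r S) : ∃ χ : IrrCharacter S, ∀ ℓ : ℕ, ℓ.Prime → ℓ ∣ Nat.card S → ℓ ≠ r →
    ℓ ∣ charDegree (χ : S → ℂ) := by
  obtain ⟨χ, hχ, N, hN, hd⟩ := h
  exact ⟨⟨χ, hχ⟩, fun ℓ hℓ h1 h2 => by
    rw [show charDegree ((⟨χ, hχ⟩ : IrrCharacter S) : S → ℂ) = N from H670.PSing.charDegree_eq_of hN]
    exact hd ℓ hℓ h1 h2⟩

theorem Big.im (h : Big r S) {ℓ : ℕ} (hℓ : ℓ.Prime) (h1 : ℓ ∣ Nat.card S) (h2 : ℓ ≠ r) : H33.IM ℓ S := by
  obtain ⟨χ, hχ⟩ := h.exists_irr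
  exact ⟨χ, hχ ℓ hℓ h1 h2⟩

open Cfsg.Agent.H671.H5

theorem Big.adj (h : Big r S) {p q : ℕ} (hp : p.Prime) (hq : q.Prime) (hpq : p ≠ q) (h1 : p ∣ Nat.card S)
    (h2 : q ∣ Nat.card S) (h3 : p ≠ r) (h4 : q ≠ r) : Adj p q S := by
  obtain ⟨χ, hχ⟩ := h.exists_irr
  rw [adj_iff]
  refine ⟨hpq, hp, hq, χ, ?_⟩
  exact Nat.Coprime.mul_dvd_of_dvd_of_dvd ((Nat.coprime_primes hp hq).2 hpq) (hχ p hp h1 h3) (hχ q hq h2 h4)

theorem dvd_card_of_mem [Finite S] {p : ℕ} (hp : p ∈ degreePrimes S) : p.Prime ∧ p ∣ Nat.card S := by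
  obtain ⟨h1, χ, h2⟩ := mem_degreePrimes.1 hp
  exact ⟨h1, (show H33.IM p S from ⟨χ, h2⟩).dvd_card⟩

/-- **(Ind)** -/
theorem Big.ind [Finite S] (h : Big r S) {p q s : ℕ} (hp : p ∈ degreePrimes S) (hq : q ∈ degreePrimes S)
    (hs : s ∈ degreePrimes S) (hpq : p ≠ q) (hqs : q ≠ s) (hps : p ≠ s) : Adj p q S ∨ Adj q s S ∨ Adj p s S := by
  obtain ⟨p1, p2⟩ := dvd_card_of_mem hp
  obtain ⟨q1, q2⟩ := dvd_card_of_mem hq
  obtain ⟨s1, s2⟩ := dvd_card_of_mem hs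
  by_cases h1 : p = r
  · subst h1
    exact Or.inr (Or.inl (h.adj q1 s1 hqs q2 s2 hpq.symm hps.symm))
  · by_cases h2 : q = r
    · subst h2
      exact Or.inr (Or.inr (h.adj p1 s1 hps p2 s2 h1 hqs.symm))
    · exact Or.inl (h.adj p1 q1 hpq p2 q2 h1 h2)

/-- **(Tri)** -/
theorem Big.tri (h : Big r S) {p q s : ℕ} (hp : p.Prime) (hq : q.Prime) (hs : s.Prime) (hpq : p ≠ q) (hqs : q ≠ s)
    (hps : p ≠ s) (h1 : p ∣ Nat.card S) (h2 : q ∣ Nat.card S) (h3 : s ∣ Nat.card S) (h4 : p ≠ r) (h5 : q ≠ r)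
    (h6 : s ≠ r) : ∃ p q s : ℕ, Adj p q S ∧ Adj q s S ∧ Adj p s S :=
  ⟨p, q, s, h.adj hp hq hpq h1 h2 h4 h5, h.adj hq hs hqs h2 h3 h5 h6, h.adj hp hs hps h1 h3 h4 h6⟩

/-- **(Conn)** -/
theorem Big.conn [Finite S] (h : Big r S) {ℓ : ℕ} (he : Adj r ℓ S) :
    ((degreeGraph S).induce (degreePrimes S)).Connected := by
  have hmem : ∀ {a b : ℕ}, Adj a b S → a ∈ degreePrimes S ∧ b ∈ degreePrimes S := by
    intro a b hab
    obtain ⟨-, ha, hb, χ, hd⟩ := adj_iff.1 hab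
    exact ⟨mem_degreePrimes.2 ⟨ha, χ, (Dvd.intro _ rfl).trans hd⟩,
      mem_degreePrimes.2 ⟨hb, χ, (Dvd.intro_left _ rfl).trans hd⟩⟩
  obtain ⟨hr', hℓ'⟩ := hmem he
  have hℓr : ℓ ≠ r := fun h1 => (adj_iff.1 he).1 h1.symm
  obtain ⟨hℓ1, hℓ2⟩ := dvd_card_of_mem hℓ'
  have key : ∀ x : degreePrimes S, ((degreeGraph S).induce (degreePrimes S)).Reachable x ⟨ℓ, hℓ'⟩ := by
    rintro ⟨x, hx⟩
    obtain ⟨hx1, hx2⟩ := dvd_card_of_mem hx
    by_cases h1 : x = ℓ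
    · subst h1
      exact SimpleGraph.Reachable.refl _
    · by_cases h2 : x = r
      · subst h2
        exact SimpleGraph.Adj.reachable (show ((degreeGraph S).induce (degreePrimes S)).Adj _ _ from he)
      · exact SimpleGraph.Adj.reachable (show ((degreeGraph S).induce (degreePrimes S)).Adj ⟨x, hx⟩ ⟨ℓ, hℓ'⟩ from
          h.adj hx1 hℓ1 h1 hx2 hℓ2 h2 hℓr)
  have : Nonempty (degreePrimes S) := ⟨⟨ℓ, hℓ'⟩⟩
  exact ⟨fun x y => (key x).trans (key y).symm⟩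

end Cfsg.Agent.H53.HC
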