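import Cfsg.Agent.H53.HC.Series
import Cfsg.Agent.H53.HC.TwoTwE6
import Cfsg.Agent.H53.HC.ExcGraph
import Cfsg.Agent.FastGrp
import Cfsg.Agent.Prune
set_option linter.all false
prune_inst 0x7f00000000000000000000000000000000000000000000000000000000000000000000000000000000000000000000000000000000000000000000000000000000000000000000000000000000000000003fffffffffffffffffffffffffffbeffbdffffffff
open scoped Cfsg.Agent.FastGrp

/-!
# Two characters of degree divisible by `p`: `E₆(q)` (FactTwo, hub H5, helper53)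

* `exists_HT_two` : `exists_irr_two` with the Harish-Chandra type;
* `perm_mem` : an element of `W(E₆)` permuting the simple roots `0, 2, 1` lies in `W_J`, `J = {i ≠ 3}`;
* `cg_E6` : the row.
-/

set_option autoImplicit false
set_option linter.unusedSectionVars false

open scoped ComplexConjugate
open Cfsg

namespace Cfsg.Agent.H53.HC

open Cfsg.Agent.OddOrderCharacters.Clifford Cfsg.Agent.Characters

open CoxeterSystem Cfsg.Agent.ChevalleyStructure.CoxeterGeom Cfsg.Agent.Tits.Roots Cfsg.Agent.Tits.Core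
  Cfsg.Agent.Tits.Exchange Cfsg.Agent.Nodes.Reps Cfsg.Agent.Nodes.BNOf Cfsg.Agent.Nodes.StabComb
  Cfsg.Agent.Nodes.Bruhat Cfsg.Agent.Nodes.OppDec Cfsg.Agent.Nodes.LeviDec Cfsg.Agent.H246.Dl
  Cfsg.Agent.H35.ExcIdx

section gen

variable {I W Y : Type*} [Fintype I] [DecidableEq I] [Group W] [Group Y] {M : CoxeterMatrix I}
  {cs : CoxeterSystem M W} {A : I → I → ℤ} {h : IsCartan M A} {p : ℕ} {T : Subgroup Y} {n : I → Y}
  {X : (I → ℤ) → Subgroup Y}

/-- the Weyl group acts trivially on the lattice modulo `3` on the vectors with all pairings divisible by `3` -/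
theorem rep_mod [Finite W] (w : W) {x : I → ℤ} (hx : ∀ i, (3 : ℤ) ∣ pairing A i x) (i : I) :
    (3 : ℤ) ∣ rep cs h w x i - x i := by
  have key : ∀ (w : W) (x : I → ℤ), (∀ i, (3 : ℤ) ∣ pairing A i x) →
      (∀ i, (3 : ℤ) ∣ pairing A i (rep cs h w x)) ∧ ∀ i, (3 : ℤ) ∣ rep cs h w x i - x i := by
    intro w
    induction w using cs.simple_induction_left with
    | one =>
      intro x hx
      rw [map_one]
      exact ⟨hx, fun i => by simp⟩
    | mul_simple_left w i ih =>
      intro x hx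
      obtain ⟨h1, h2⟩ := ih x hx
      rw [rep_mul_apply, rep_simple_eq]
      refine ⟨fun k => ?_, fun k => ?_⟩
      · have e : pairing A k (rep cs h w x - pairing A i (rep cs h w x) • sr i) =
            pairing A k (rep cs h w x) - pairing A i (rep cs h w x) * pairing A k (sr i) := by
          rw [sub_eq_add_neg, ← neg_smul, pairing_add, pairing_smul]
          ring
        rw [e]
        exact dvd_sub (h1 k) ((h1 i).mul_right _)
      · have e : (rep cs h w x - pairing A i (rep cs h w x) • sr i) k - x k =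
            (rep cs h w x k - x k) - pairing A i (rep cs h w x) * sr i k := by
          simp only [Pi.sub_apply, Pi.smul_apply, smul_eq_mul]
          ring
        rw [e]
        exact dvd_sub (h2 k) ((h1 i).mul_right _)
  exact (key w x hx).2 i

theorem supp_of_perm [Finite W] {K K' : Set I} (ho : Orth A K K')
    (hperp : ∀ x, IsRoot cs h x → (∀ k ∈ K, pairing A k x = 0) → ∀ k, k ∉ K' → x k = 0) {v : W} (hv : Perm cs h K v) :
    ∀ i ∈ K', ∀ k, k ∉ K' → rep cs h v (sr i) k = 0 := by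
  intro i hi
  refine hperp _ ((isRoot_sr cs h i).act v) fun k hk => ?_
  obtain ⟨k', hk', e⟩ := hv.1 k hk
  have e' : rep cs h v (sr k') = sr k := by rw [← e, rep_apply_inv]
  rw [pairing_rep e', sr, pairing_single, mul_one]
  exact (ho k' hk' i hi).2.1

/-- **Elements permuting `K`, positive on the orthogonal set `K'`, permute `K ∪ K'`**, if the roots orthogonal to `K` are
supported on `K'`. -/
theorem perm_union [Finite W] {K K' : Set I} (ho : Orth A K K')
    (hperp : ∀ x, IsRoot cs h x → (∀ k ∈ K, pairing A k x = 0) → ∀ k, k ∉ K' → x k = 0) {w : W} (hw : Perm cs h K w)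
    (hpos : ∀ i ∈ K', 0 ≤ rep cs h w (sr i)) : Perm cs h (K ∪ K') w := by
  have hsupp : ∀ v : W, Perm cs h K v → ∀ i ∈ K', ∀ k, k ∉ K' → rep cs h v (sr i) k = 0 :=
    fun v hv => supp_of_perm ho hperp hv
  have hneg : ∀ i ∈ K', 0 ≤ rep cs h w⁻¹ (sr i) := by
    intro i hi
    rcases ((isRoot_sr cs h i).act w⁻¹).pos_or_neg with h1 | h1
    · exact h1
    · exfalso
      have h2 : 0 ≤ rep cs h w (-rep cs h w⁻¹ (sr i)) :=
        rep_nonneg_of_supp hpos (neg_nonneg.2 h1) fun k hk => by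
          rw [Pi.neg_apply, hsupp w⁻¹ hw.inv i hi k hk, neg_zero]
      rw [map_neg, rep_apply_inv] at h2
      have h3 := h2 i
      rw [Pi.neg_apply, sr_self] at h3
      norm_num at h3
  have hp1 : ∀ i ∈ K ∪ K', 0 ≤ rep cs h w⁻¹ (sr i) := by
    rintro i (hi | hi)
    · obtain ⟨k, -, e⟩ := hw.1 i hi
      rw [e]; exact sr_nonneg k
    · exact hneg i hi
  have hp2 : ∀ i ∈ K ∪ K', 0 ≤ rep cs h w (sr i) := by
    rintro i (hi | hi)
    · obtain ⟨k, -, e⟩ := hw.2 i hi
      rw [e]; exact sr_nonneg k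
    · exact hpos i hi
  rcases perm_or hp1 hp2 with hp | ⟨i, hi, hrad⟩
  · exact hp
  · exfalso
    have h1 : (sr i : I → ℤ) ∈ PosRad cs h (K ∪ K') i := by
      refine ⟨sr_mem_PosJ hi, ?_⟩
      rw [sr_self]; norm_num
    obtain ⟨-, -, k, hk, hk0⟩ := hrad _ h1
    rcases hi with hi | hi
    · obtain ⟨k', hk', e⟩ := hw.1 i hi
      have hkk : k ≠ k' := by
        rintro rfl
        exact hk (Or.inl hk')
      rw [e, sr_ne hkk] at hk0
      exact lt_irrefl _ hk0
    · rw [hsupp w⁻¹ hw.inv i hi k (fun h2 => hk (Or.inr h2))] at hk0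
      exact lt_irrefl _ hk0

/-- the elements permuting `K` lie in `W_{K ∪ K'}` if those which are positive on `K'` do -/
theorem mem_WJ_of_pos [Finite W] {K K' : Set I} (ho : Orth A K K') {w : W} (hw : Perm cs h K w)
    (hP : ∀ v, Perm cs h K v → (∀ i ∈ K', 0 ≤ rep cs h v (sr i)) → v ∈ WJ cs (K ∪ K')) : w ∈ WJ cs (K ∪ K') := by
  classical
  have hfix : ∀ v ∈ WJ cs K', ∀ i ∈ K, rep cs h v (sr i) = sr i := by
    intro v hv i hi
    induction hv using Subgroup.closure_induction with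
    | mem x hx =>
      obtain ⟨j, hj, rfl⟩ := hx
      rw [rep_simple_eq, sr, pairing_single, mul_one, (ho i hi j hj).2.2, zero_smul, sub_zero]
    | one => rw [map_one, Module.End.one_apply]
    | mul x y _ _ hx hy => rw [rep_mul_apply, hy, hx]
    | inv x _ hx => rw [← hx, rep_inv_apply, hx]
  have hex : ∃ m : ℕ, ∃ v ∈ WJ cs K', cs.length (w * v) = m := ⟨_, 1, one_mem _, rfl⟩
  obtain ⟨v, hv, hm⟩ := Nat.find_spec hex
  have hmin : ∀ u ∈ WJ cs K', cs.length (w * v) ≤ cs.length (w * u) := by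
    intro u hu
    rw [hm]
    exact Nat.find_min' hex ⟨u, hu, rfl⟩
  have h1 : w * v ∈ WJ cs (K ∪ K') := by
    refine hP _ ⟨fun i hi => ?_, fun i hi => ?_⟩ fun i hi => ?_
    · obtain ⟨k, hk, e⟩ := hw.1 i hi
      refine ⟨k, hk, ?_⟩
      rw [mul_inv_rev, rep_mul_apply, e, hfix _ (inv_mem hv) k hk]
    · obtain ⟨k, hk, e⟩ := hw.2 i hi
      refine ⟨k, hk, ?_⟩
      rw [rep_mul_apply, hfix v hv i hi, e]
    · refine nonneg_of_lt cs h (w * v) i ?_
      have h2 := hmin (v * cs.simple i) (mul_mem hv (simple_mem_WJ cs hi))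
      have h3 := cs.length_mul_simple (w * v) i
      rw [← mul_assoc] at h2
      omega
  have h2 : v⁻¹ ∈ WJ cs (K ∪ K') := inv_mem (WJ_mono cs Set.subset_union_right hv)
  have h3 := mul_mem h1 h2
  rwa [mul_inv_cancel_right] at h3

end gen

section two

variable {I W Y : Type*} [Fintype I] [DecidableEq I] [Group W] [Group Y] {M : CoxeterMatrix I}
  {cs : CoxeterSystem M W} {A : I → I → ℤ} {h : IsCartan M A} {p : ℕ} {T : Subgroup Y} {n : I → Y}
  {X : (I → ℤ) → Subgroup Y}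

variable (R : RGD cs h p T n X)

include R

/-- **Two components of type `A_2`.** -/
theorem exists_HT_two [Finite W] [Fintype Y] (hG : GG cs h T X = ⊤) {J K L N : Set I} {j : I}
    (hJ : ∀ i, i ∈ J ↔ i ≠ j) (hJK : J = K ∪ (L ∪ N)) (hoK : Orth A K (L ∪ N)) (hoL : Orth A L N) {k₀ k₁ l₀ l₁ : I}
    (hK : K = {k₀, k₁}) (hL : L = {l₀, l₁}) (hk : IsoPair A J k₀ k₁) (hl : IsoPair A J l₀ l₁)
    (hk1 : A k₁ j = 0) (hl1 : A l₁ j = 0) (h3 : ¬ (3 : ℤ) ∣ A k₀ j) (hkl : A l₀ j = A k₀ j)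
    (hun : ∀ a b, IsoPair A J a b → (a = k₀ ∧ b = k₁) ∨ (a = k₁ ∧ b = k₀) ∨ (a = l₀ ∧ b = l₁) ∨ (a = l₁ ∧ b = l₀))
    {θ : ↥(MJ cs h X K) → ℂ} (hθ : Cusp cs h X K θ) (hns : NonSwap cs h X K k₀ k₁ θ)
    {α α' : ↥(MJ cs h X L) → ℂ} (hα : Cusp cs h X L α) (hα' : Cusp cs h X L α')
    (hne : ∀ t (ht : t ∈ T), α' ≠ α ∘ conjME (MJ cs h X L) (T_le_normalizer_MJ R L ht))
    {β : ↥(MJ cs h X N) → ℂ} (hβ : Cusp cs h X N β) :
    ∃ χ : Y → ℂ, HT cs h X χ J ∧ ∃ k : ℕ, 0 < k ∧ χ 1 = (PJ cs h T X J).index * (k * θ 1) := by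
  classical
  subst hJK
  -- the set of pairs to be avoided
  let Bad : (↥(MJ cs h X L) → ℂ) → Prop := fun γ => ∃ (w : W) (g : Y) (_ : Rp cs R.nsys w g)
    (_ : Perm cs h (K ∪ (L ∪ N)) w) (_ : w ∉ WJ cs (K ∪ (L ∪ N))) (hm : ∀ m ∈ MJ cs h X L, g⁻¹ * m * g ∈ MJ cs h X K)
    (c : ℂ), ∀ m : MJ cs h X L, γ m = c * θ ⟨g⁻¹ * m * g, hm m m.2⟩
  obtain ⟨γ, hγ, hbad⟩ : ∃ γ : ↥(MJ cs h X L) → ℂ, Cusp cs h X L γ ∧ ¬ Bad γ := by
    by_contra hcon
    push Not at hcon
    obtain ⟨w, g, hg, hw, hwJ, hm, c, e⟩ := hcon α hα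
    obtain ⟨w', g', hg', hw', hwJ', hm', c', e'⟩ := hcon α' hα'
    have ht := fix_of_two R hJ hw hwJ hw' hwJ' hg hg'
    refine hne _ ht ?_
    have hc0 : c ≠ 0 := by
      rintro rfl
      apply Core.isIrr_ne_zero hα.irr
      funext m
      rw [e, zero_mul]; rfl
    refine eq_of_smul (c := c' * c⁻¹) hα'.irr
      (Core.isIrr_comp (conjME _ (T_le_normalizer_MJ R L ht)).toMonoidHom (MulEquiv.surjective _) hα.irr) fun m => ?_
    change α' m = c' * c⁻¹ * α (conjME _ (T_le_normalizer_MJ R L ht) m)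
    rw [e', e]
    have e1 : (⟨g⁻¹ * (conjME (MJ cs h X L) (T_le_normalizer_MJ R L ht) m : Y) * g,
        hm _ (conjME (MJ cs h X L) (T_le_normalizer_MJ R L ht) m).2⟩ : MJ cs h X K) = ⟨g'⁻¹ * m * g', hm' m m.2⟩ := by
      apply Subtype.ext
      simp only [conjME_coe]
      group
    rw [e1]
    field_simp
  obtain ⟨δ, hδ, hδval⟩ := hγ.exists_prod R hoL hβ
  obtain ⟨ψ, hψ, hval⟩ := hθ.exists_prod R hoK hδ
  have hval1 : ψ 1 = θ 1 * δ 1 := by
    obtain ⟨hab, e⟩ := hval 1 (one_mem _) 1 (one_mem _)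
    simp only [mul_one] at e
    exact e
  obtain ⟨χ, hχ, k, hk0, hχ1⟩ := exists_HT_MJ R hG (K ∪ (L ∪ N)) hψ.irr hψ.van (by
    intro w g hg hw hp
    rcases swap_or hJ hk hl hk1 hl1 h3 hkl hun hp hw with ⟨h0, h1⟩ | ⟨h0, h1⟩
    · exact not_stable_swap R rfl hoK hK hns hδ.irr hval hg hp h0 h1
    · by_contra hcon
      push Not at hcon
      apply hbad
      have hm : ∀ m ∈ MJ cs h X L, g⁻¹ * m * g ∈ MJ cs h X K := by
        intro m hm
        refine conj_mem_Sup' R hg (S := RootsJ cs h L) (S' := RootsJ cs h K) (fun x hx => hx.1) ?_ hm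
        intro x hx
        refine ⟨hx.1.act _, fun k hkK => ?_⟩
        rw [eq_sum_sr x, map_sum, Finset.sum_apply]
        refine Finset.sum_eq_zero fun i _ => ?_
        rw [map_smul, Pi.smul_apply]
        by_cases hi : i ∈ L
        · rw [hL] at hi
          have hk' : k ≠ k₀ ∧ k ≠ k₁ := by
            constructor <;> rintro rfl <;> exact hkK (by rw [hK]; simp)
          rcases hi with rfl | rfl
          · rw [← h1, rep_inv_apply, sr_ne hk'.2, smul_zero]
          · rw [← h0, rep_inv_apply, sr_ne hk'.1, smul_zero]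
        · rw [hx.2 i hi, zero_smul]
      have hKle : MJ cs h X K ≤ MJ cs h X (K ∪ (L ∪ N)) := by
        rw [hoK.MJ_union]; exact le_sup_left
      have hLNle : MJ cs h X (L ∪ N) ≤ MJ cs h X (K ∪ (L ∪ N)) := by
        rw [hoK.MJ_union]; exact le_sup_right
      have hLle : MJ cs h X L ≤ MJ cs h X (L ∪ N) := by
        rw [hoL.MJ_union]; exact le_sup_left
      refine ⟨w, g, hg, hp, hw, hm, δ 1 / (θ 1 * β 1), fun m => ?_⟩
      have h2 := hcon m (hLNle (hLle m.2))
      obtain ⟨hab1, e1⟩ := hval (g⁻¹ * m * g) (hm m m.2) 1 (one_mem _)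
      obtain ⟨hab2, e2⟩ := hval 1 (one_mem _) m (hLle m.2)
      obtain ⟨hab3, e3⟩ := hδval m m.2 1 (one_mem _)
      simp only [mul_one] at e1
      simp only [one_mul] at e2
      simp only [mul_one] at e3
      have e4 : θ ⟨g⁻¹ * m * g, hm m m.2⟩ * δ 1 = θ 1 * (γ m * β 1) :=
        (e1.symm.trans h2).trans (e2.trans (congrArg (θ 1 * ·) e3))
      have hθ1 := Core.isIrr_apply_one_ne_zero hθ.irr
      have hβ1 := Core.isIrr_apply_one_ne_zero hβ.irr
      field_simp
      rw [mul_comm (δ 1), e4]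
      ring)
  obtain ⟨d, hd0, hd⟩ := Core.isIrr_apply_one hδ.irr
  refine ⟨χ, hχ, k * d, Nat.mul_pos hk0 hd0, ?_⟩
  rw [hχ1, hval1, hd]
  push_cast
  ring


end two

/-! ### The row -/

namespace TwoRows

open Cfsg.Agent.H53.HC.ExcRows Cfsg.Agent.H53.HC.ExcIM Cfsg.Lie Cfsg.Agent.Nodes.RGDChev
  Cfsg.Agent.ChevalleyStructure.CoxeterGeomTypes

/-- the roots of `E₆` orthogonal to the simple roots `0, 2, 1` -/
theorem perp_tab : ∀ r < 72, chevE6.cartan 2 r = 0 ∧ chevE6.cartan 0 r = 0 ∧ chevE6.cartan 1 r = 0 →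
    ∀ i : Fin 6, (i ≠ 4 ∧ i ≠ 5) → ChevalleyStructure.RootVec.rt chevE6 r i = 0 := by decide +kernel

theorem nroots6 : chevE6.nroots = 72 := by decide +kernel

theorem perp_E6 (x : Fin 6 → ℤ) (hx : IsRoot CoxeterMatrix.E₆.toCoxeterSystem hpE6.isCartan x)
    (hp : ∀ k ∈ ({2, 0} ∪ {1} : Set (Fin 6)), pairing (cartanOf chevE6 6) k x = 0) :
    ∀ k, k ∉ ({4, 5} : Set (Fin 6)) → x k = 0 := by
  obtain ⟨r, hr, rfl⟩ := (isRoot_iff hpE6 _ x).1 hx
  intro k hk
  simp only [Set.mem_insert_iff, Set.mem_singleton_iff, not_or] at hk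
  have h1 : ∀ i : Fin 6, i ∈ ({2, 0} ∪ {1} : Set (Fin 6)) → chevE6.cartan i r = 0 := fun i hi => by
    rw [← pairing_vec hpE6 i hr]
    exact hp i hi
  exact perp_tab r (nroots6 ▸ hr) ⟨h1 2 (by simp), h1 0 (by simp), h1 1 (by simp)⟩ k hk

theorem compl6' : (({2, 0} ∪ {1}) ∪ {4, 5} : Set (Fin 6)) = {i | i ≠ 3} := by
  ext i
  simp only [Set.mem_ofPred_eq, Set.mem_union, Set.mem_insert_iff, Set.mem_singleton_iff]
  revert i; decide

theorem or6c : _root_.Cfsg.Agent.H53.HC.ExcRows.Or m6 [2, 0, 1] [4, 5] := by decide +kernel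

/-- a vector all of whose pairings are divisible by `3` -/
def u6 : Fin 6 → ℤ := ![1, 0, 2, 0, 1, 2]

theorem u6_dvd : ∀ i : Fin 6, (3 : ℤ) ∣ pairing (cartanOf chevE6 6) i u6 := by decide +kernel

theorem perm_mem_E6 [Finite CoxeterMatrix.E₆.Group] {w : CoxeterMatrix.E₆.Group}
    (hw : Perm CoxeterMatrix.E₆.toCoxeterSystem hpE6.isCartan ({2, 0} ∪ {1}) w) :
    w ∈ WJ CoxeterMatrix.E₆.toCoxeterSystem (({2, 0} ∪ {1}) ∪ {4, 5} : Set (Fin 6)) := by
  have hM := hpE6.isCartan
  have ho : Orth (cartanOf chevE6 6) ({2, 0} ∪ {1} : Set (Fin 6)) {4, 5} := orth_of hM fun i hi i' hi' =>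
    or6c i (by simpa only [or_assoc, or_comm, or_left_comm, _root_.Fin.isValue, _root_.List.mem_cons, _root_.List.not_mem_nil, _root_.false_or, _root_.Set.union_singleton, _root_.Set.mem_insert_iff, _root_.Set.mem_singleton_iff] using hi) i' (by simpa using hi')
  refine mem_WJ_of_pos ho hw fun v hv hpos => ?_
  have hP := perm_union ho perp_E6 hv hpos
  rw [compl6'] at hP ⊢
  by_contra hcon
  have hinj : ∀ {i k : Fin 6}, (sr i : Fin 6 → ℤ) = sr k → i = k := by
    intro i k hik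
    by_contra hne
    have := congrFun hik i
    rw [sr_self, sr_ne hne] at this
    exact one_ne_zero this
  have hk : IsoPair (cartanOf chevE6 6) ({i | i ≠ 3} : Set (Fin 6)) 2 0 :=
    isoPair_of hM (by decide) (by decide) (by decide +kernel) (by decide +kernel)
  have hl : IsoPair (cartanOf chevE6 6) ({i | i ≠ 3} : Set (Fin 6)) 4 5 :=
    isoPair_of hM (by decide) (by decide) (by decide +kernel) (by decide +kernel)
  rcases swap_or (cs := CoxeterMatrix.E₆.toCoxeterSystem) (h := hM) (j := 3) (fun i => Iff.rfl) hk hl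
      (by decide +kernel) (by decide +kernel) (by decide +kernel) (by decide +kernel)
      (fun a b hab => by
        obtain ⟨h1, h2, h3, h4⟩ := of_isoPair hM hab
        exact un6 a b h1 h2 h3 h4) hP hcon with ⟨h0, h1⟩ | ⟨h0, h1⟩
  · -- both components are reversed
    have h2 := rep_mod (cs := CoxeterMatrix.E₆.toCoxeterSystem) (h := hM) v u6_dvd 0
    have hsupp : ∀ i ∈ ({4, 5} : Set (Fin 6)), ∀ k, k ∉ ({4, 5} : Set (Fin 6)) →
        rep CoxeterMatrix.E₆.toCoxeterSystem hM v (sr i) k = 0 := supp_of_perm ho perp_E6 hv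
    have e : rep CoxeterMatrix.E₆.toCoxeterSystem hM v u6 0 = 2 := by
      rw [eq_sum_sr u6, map_sum, Finset.sum_apply]
      simp only [map_smul, Pi.smul_apply, smul_eq_mul, Fin.sum_univ_six]
      have e4 := hsupp 4 (by simp) 0 (by decide)
      have e5 := hsupp 5 (by simp) 0 (by decide)
      rw [h0, h1, e4, e5, sr_self, sr_ne (by decide : (0 : Fin 6) ≠ 2)]
      simp [u6]
    rw [e] at h2
    revert h2
    simp [u6]
  · -- the components are interchanged
    obtain ⟨k, hk', e⟩ := hv.2 2 (by simp)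
    have h3 : k = 5 := hinj (e.symm.trans h0)
    subst h3
    revert hk'
    decide

section split

universe u

variable {K : Type u} [Field K] [Fintype K] {r f : ℕ} (hr : r.Prime) (hf : f ≠ 0)
  (hK : Fintype.card K = r ^ f) [CharP K r]

include hr hf hK in
theorem two_E6 {p : ℕ} (hp : p.Prime) (hd : p ∣ Nat.card ↥(chevE6.group K)) (hpr : p ≠ r) :
    H596.OneFacts.Two p ↥(chevE6.group K) := by
  classical
  have := finite_group (K := K) chevE6
  have : Fintype ↥(chevE6.group K) := Fintype.ofFinite _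
  have : Fact r.Prime := ⟨hr⟩
  have D := data_E6_3 hr hf hK
  have := D.fin
  have h2 := two_le hr hf
  -- the components
  obtain ⟨θ, hθ, hns, d, t, hd1, hdt, ht⟩ := H622.Levi.inA2 D.rgd (k₀ := 2) (k₁ := 0) (by decide +kernel) (D.size 2)
  obtain ⟨η, e, u, hη, hη1, he, -⟩ := H622.Levi.cusp_node D.rgd 1 3 (by decide +kernel) (D.size 1)
  obtain ⟨α, α', hα, hα', hne⟩ := H622.Levi.pair D.rgd (k₀ := 4) (k₁ := 5) (by decide +kernel)
  have ho1 : Orth (cartanOf chevE6 6) ({2, 0} : Set (Fin 6)) {1} := orth_of hpE6.isCartan fun i hi i' hi' =>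
    or6a i (by simpa using hi) i' (by simp_all only [_root_.ne_eq, _root_.Nat.card_eq_fintype_card, _root_.Fin.isValue, _root_.Subtype.forall, _root_.Set.mem_insert_iff, _root_.Set.mem_singleton_iff, _root_.List.mem_cons, _root_.Fin.reduceEq, _root_.List.not_mem_nil, _root_.or_self, _root_.or_false])
  obtain ⟨ψ, hψ, hval⟩ := hθ.exists_prod D.rgd ho1 hη
  have hψ1 : ψ 1 = θ 1 * η 1 := by
    obtain ⟨hab, e⟩ := hval 1 (one_mem _) 1 (one_mem _)
    simp only [mul_one] at e
    exact e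
  -- the first character
  have ho : Orth (cartanOf chevE6 6) ({2, 0} ∪ {1} : Set (Fin 6)) {4, 5} := orth_of hpE6.isCartan fun i hi i' hi' =>
    or6c i (by simpa only [or_assoc, or_comm, or_left_comm, _root_.Fin.isValue, _root_.List.mem_cons, _root_.List.not_mem_nil, _root_.false_or, _root_.Set.union_singleton, _root_.Set.mem_insert_iff, _root_.Set.mem_singleton_iff] using hi) i' (by simpa using hi')
  obtain ⟨χ, hχ, k, hk0, -, hχ1⟩ := exists_irr_series D.rgd D.gg ho (fun w hw => perm_mem_E6 hw) hψ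
  -- the second character
  obtain ⟨χ', hχ', k', hk0', hχ1'⟩ := exists_HT_two D.rgd D.gg (J := {i | i ≠ 3}) (j := 3) (fun i => Iff.rfl) compl6
    (orth_of hpE6.isCartan fun i hi i' hi' => or6a i (by simpa using hi) i' (by simpa [or_comm, or_assoc] using hi'))
    (orth_of hpE6.isCartan fun i hi i' hi' => or6b i (by simpa using hi) i' (by simpa using hi')) rfl rfl
    (isoPair_of hpE6.isCartan (by decide) (by decide) (by decide +kernel) (by decide +kernel))
    (isoPair_of hpE6.isCartan (by decide) (by decide) (by decide +kernel) (by decide +kernel))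
    (by decide +kernel) (by decide +kernel) (by decide +kernel) (by decide +kernel)
    (fun a b hab => by
      obtain ⟨h1, h2, h3, h4⟩ := of_isoPair hpE6.isCartan hab
      exact un6 a b h1 h2 h3 h4) hθ hns hα hα' hne hη
  rw [compl6'] at hχ1
  have d1 : p ∣ charDegree χ := by
    have k1 := Cfsg.Agent.Blocks.Basic.irr_one_eq_charDegree hχ.irr
    have e1 : charDegree χ = (PJ CoxeterMatrix.E₆.toCoxeterSystem hpE6.isCartan (TT chevE6 K) (XX chevE6 6 K)
        {i | i ≠ 3}).index * (k * (d * e)) := by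
      have : (charDegree χ : ℂ) = (((PJ CoxeterMatrix.E₆.toCoxeterSystem hpE6.isCartan (TT chevE6 K) (XX chevE6 6 K)
        {i | i ≠ 3}).index * (k * (d * e)) : ℕ) : ℂ) := by
        rw [← k1, hχ1, hψ1, hd1, hη1]
        push_cast
        ring
      exact_mod_cast this
    rw [e1]
    exact dvd_deg hr h2 D hdt ht hp hd hpr dvd_rfl
  have d2 : p ∣ charDegree χ' := by
    have k1 := Cfsg.Agent.Blocks.Basic.irr_one_eq_charDegree hχ'.irr
    have e1 : charDegree χ' = (PJ CoxeterMatrix.E₆.toCoxeterSystem hpE6.isCartan (TT chevE6 K) (XX chevE6 6 K)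
        {i | i ≠ 3}).index * (k' * (d * 1)) := by
      have : (charDegree χ' : ℂ) = (((PJ CoxeterMatrix.E₆.toCoxeterSystem hpE6.isCartan (TT chevE6 K) (XX chevE6 6 K)
        {i | i ≠ 3}).index * (k' * (d * 1)) : ℕ) : ℂ) := by
        rw [← k1, hχ1', hd1]
        push_cast
        ring
      exact_mod_cast this
    rw [e1]
    exact dvd_deg hr h2 D hdt ht hp hd hpr dvd_rfl
  refine ⟨⟨χ', hχ'.irr⟩, ⟨χ, hχ.irr⟩, d2, d1, fun σ => ?_⟩
  exact HT.not_aut D.rgd D.gg hχ' hχ (Or.inr (by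
    rw [Set.ncard_eq_toFinset_card', Set.ncard_eq_toFinset_card']
    decide)) σ

end split

end TwoRows

end Cfsg.Agent.H53.HC

private theorem dce_dbe475e97b0b : _root_.True := by
  try have : _root_.True := by simp only [_root_.Cfsg.Agent.H53.HC.TwoRows.u6.eq_1]
  exact _root_.True.intro
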