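import Cfsg.Agent.H53.HC.Exc
import Cfsg.Agent.H928.Van.Tor
import Cfsg.Agent.Prune
set_option linter.all false
prune_inst 0x7f00000000000000000000000000000000000000000000000000000000000000000000000000000000000000000000000000000000000000000000000000000000000000000000000000000000000000003fffffffffffffffffffffffffffbeffbdffffffff
open scoped Cfsg.Agent.FastGrp

-- part: H53/HC/ExcRows
section
/-!
# Big characters of `F₄`, `E₆`, `E₇`, `E₈`, `²E₆` from the cuspidal characters of the Levi components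
-/

set_option autoImplicit false

namespace Cfsg.Agent.H53.HC.ExcRows

open Cfsg.Agent.H53.HC Cfsg.Agent.H35.ExcIdx Cfsg.Lie Cfsg.Agent.Nodes.RGDChev

universe u

/-- the entries of the Coxeter matrices -/
def m8 (i j : Fin 8) : ℕ := CoxeterMatrix.E₈ i j
/-- the entries of the Coxeter matrices -/
def m7 (i j : Fin 7) : ℕ := CoxeterMatrix.E₇ i j
/-- the entries of the Coxeter matrices -/
def m6 (i j : Fin 6) : ℕ := CoxeterMatrix.E₆ i j
/-- the entries of the Coxeter matrices -/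
def m4 (i j : Fin 4) : ℕ := CoxeterMatrix.F₄ i j

/-- the condition `hun` -/
abbrev Un {l : ℕ} (m : Fin l → Fin l → ℕ) (j k₀ k₁ : Fin l) : Prop :=
  ∀ a b, a ≠ j → b ≠ j → m a b = 3 → (∀ c, c ≠ j → c ≠ a → c ≠ b → m a c = 2 ∧ m b c = 2) →
      (a = k₀ ∧ b = k₁) ∨ (a = k₁ ∧ b = k₀)

/-- the condition `hun` -/
abbrev Un2 {l : ℕ} (m : Fin l → Fin l → ℕ) (j k₀ k₁ l₀ l₁ : Fin l) : Prop :=
  ∀ a b, a ≠ j → b ≠ j → m a b = 3 → (∀ c, c ≠ j → c ≠ a → c ≠ b → m a c = 2 ∧ m b c = 2) →
      (a = k₀ ∧ b = k₁) ∨ (a = k₁ ∧ b = k₀) ∨ (a = l₀ ∧ b = l₁) ∨ (a = l₁ ∧ b = l₀)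

theorem un8 : Un m8 3 2 0 := by decide +kernel
theorem un7 : Un m7 3 2 0 := by decide +kernel
theorem un6 : Un2 m6 3 2 0 4 5 := by decide +kernel
theorem un4 : Un m4 2 1 0 := by decide +kernel

/-- orthogonality of lists of nodes -/
abbrev Or {l : ℕ} (m : Fin l → Fin l → ℕ) (K K' : List (Fin l)) : Prop := ∀ i ∈ K, ∀ j ∈ K', m i j = 2

theorem or8a : Or m8 [2, 0] [4, 5, 6, 7, 1] := by decide +kernel
theorem or8b : Or m8 [1] [4, 5, 6, 7] := by decide +kernel
theorem or7a : Or m7 [2, 0] [4, 5, 6, 1] := by decide +kernel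
theorem or7b : Or m7 [1] [4, 5, 6] := by decide +kernel
theorem or6a : Or m6 [2, 0] [1, 4, 5] := by decide +kernel
theorem or6b : Or m6 [4, 5] [1] := by decide +kernel
theorem or4 : Or m4 [1, 0] [3] := by decide +kernel

theorem compl8 : ({i | i ≠ 3} : Set (Fin 8)) = {2, 0} ∪ ({1} ∪ {4, 5, 6, 7}) := by
  ext i
  simp only [Set.mem_ofPred_eq, Set.mem_union, Set.mem_insert_iff, Set.mem_singleton_iff]
  revert i; decide

theorem compl7 : ({i | i ≠ 3} : Set (Fin 7)) = {2, 0} ∪ ({1} ∪ {4, 5, 6}) := by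
  ext i
  simp only [Set.mem_ofPred_eq, Set.mem_union, Set.mem_insert_iff, Set.mem_singleton_iff]
  revert i; decide

theorem compl6 : ({i | i ≠ 3} : Set (Fin 6)) = {2, 0} ∪ ({4, 5} ∪ {1}) := by
  ext i
  simp only [Set.mem_ofPred_eq, Set.mem_union, Set.mem_insert_iff, Set.mem_singleton_iff]
  revert i; decide

theorem compl4 : ({i | i ≠ 2} : Set (Fin 4)) = {1, 0} ∪ {3} := by
  ext i
  simp only [Set.mem_ofPred_eq, Set.mem_union, Set.mem_insert_iff, Set.mem_singleton_iff]
  revert i; decide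

section split

variable {K : Type u} [Field K] [Fintype K] {r f : ℕ} (hr : r.Prime) (hf : f ≠ 0)
  (hK : Fintype.card K = r ^ f) [CharP K r]

theorem finite_group (D : ChevalleyDatum) : Finite ↥(D.group K) := by
  classical
  have : Finite (GL D.Idx K) := by
    have : Finite (Matrix D.Idx D.Idx K) := inferInstance
    infer_instance
  infer_instance

include hr hf hK in
theorem big_E8 (h2 : InA2 hpE8.isCartan (XX chevE8 8 K) (r ^ f) 2 0) (h1 : In hpE8.isCartan (XX chevE8 8 K) {1})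
    (h4 : In hpE8.isCartan (XX chevE8 8 K) {4, 5, 6, 7}) : BigF r (r ^ f) ↥(chevE8.group K) := by
  have := finite_group (K := K) chevE8
  have D := data_E8_3 hr hf hK
  refine big_of_one hr (two_le hr hf) D (K' := {1} ∪ {4, 5, 6, 7}) compl8 ?_ (by decide +kernel) (by decide +kernel)
    (by decide +kernel) un8 h2 (In.union D h1 h4 ?_)
  · intro i hi i' hi'
    exact or8a i (by simpa using hi) i' (by simpa using hi')
  · intro i hi i' hi'
    exact or8b i (by simpa using hi) i' (by simpa using hi')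

include hr hf hK in
theorem big_E7 (h2 : InA2 hpE7.isCartan (XX chevE7 7 K) (r ^ f) 2 0) (h1 : In hpE7.isCartan (XX chevE7 7 K) {1})
    (h3 : In hpE7.isCartan (XX chevE7 7 K) {4, 5, 6}) : BigF r (r ^ f) ↥(chevE7.group K) := by
  have := finite_group (K := K) chevE7
  have D := data_E7_3 hr hf hK
  refine big_of_one hr (two_le hr hf) D (K' := {1} ∪ {4, 5, 6}) compl7 ?_ (by decide +kernel) (by decide +kernel)
    (by decide +kernel) un7 h2 (In.union D h1 h3 ?_)
  · intro i hi i' hi'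
    exact or7a i (by simpa using hi) i' (by simpa using hi')
  · intro i hi i' hi'
    exact or7b i (by simpa using hi) i' (by simpa using hi')

include hr hf hK in
theorem big_F4 (h2 : InA2 hpF4.isCartan (XX chevF4 4 K) (r ^ f) 1 0)
    (h1 : In hpF4.isCartan (XX chevF4 4 K) {3}) : BigF r (r ^ f) ↥(chevF4.group K) := by
  have := finite_group (K := K) chevF4
  have D := data_F4_2 hr hf hK
  refine big_of_one hr (two_le hr hf) D (K' := {3}) compl4 ?_ (by decide +kernel) (by decide +kernel)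
    (by decide +kernel) un4 h2 h1
  intro i hi i' hi'
  exact or4 i (by simpa using hi) i' (by simpa using hi')

include hr hf hK in
theorem big_E6 (h2 : InA2 hpE6.isCartan (XX chevE6 6 K) (r ^ f) 2 0)
    (hL : ∃ α α' : ↥(MJ CoxeterMatrix.E₆.toCoxeterSystem hpE6.isCartan (XX chevE6 6 K) {4, 5}) → ℂ,
      Cusp CoxeterMatrix.E₆.toCoxeterSystem hpE6.isCartan (XX chevE6 6 K) {4, 5} α ∧
      Cusp CoxeterMatrix.E₆.toCoxeterSystem hpE6.isCartan (XX chevE6 6 K) {4, 5} α' ∧
      ∀ t (ht : t ∈ TT chevE6 K), α' ≠ α ∘ conjME (MJ CoxeterMatrix.E₆.toCoxeterSystem hpE6.isCartan (XX chevE6 6 K)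
        {4, 5}) (T_le_normalizer_MJ (data_E6_3 hr hf hK).rgd {4, 5} ht))
    (h1 : In hpE6.isCartan (XX chevE6 6 K) {1}) : BigF r (r ^ f) ↥(chevE6.group K) := by
  have := finite_group (K := K) chevE6
  have D := data_E6_3 hr hf hK
  refine big_of_two hr (two_le hr hf) D (N := {1}) compl6 ?_ ?_ (by decide +kernel) (by decide +kernel)
    (by decide +kernel) (by decide +kernel) (by decide +kernel) (by decide +kernel) un6 h2 hL h1
  · intro i hi i' hi'
    exact or6a i (by simpa using hi) i' (by simpa using hi')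
  · intro i hi i' hi'
    exact or6b i (by simpa using hi) i' (by simpa using hi')

end split

section tw

open Cfsg.Agent.Nodes

variable {K : Type u} [Field K] [Fintype K] {q : ℕ} {φ : K →+* K}
  {r f : ℕ} (hr : r.Prime) (hf : f ≠ 0) (hq : q = r ^ f) [CharP K r]
  (hφ : ∀ x, φ x = x ^ q) (hqq : ∀ t : K, (t ^ q) ^ q = t) (hK : Fintype.card K = q ^ 2)

include hr hf hq hqq hK hφ in
theorem big_TwE6 (h2 : InA2 RGDTwE6.isCartan (RGDTwE6.X φ q) q 1 0)
    (h1 : In RGDTwE6.isCartan (RGDTwE6.X φ q) {3}) : BigF r q ↥(twistedE6 K q) := by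
  have : Finite ↥(twistedE6 K q) := by
    have : Finite (GL chevE6.Idx K) := by
      have : Finite (Matrix chevE6.Idx chevE6.Idx K) := inferInstance
      infer_instance
    infer_instance
  have D := data_TwE6_2 hr hf hq hφ hqq hK
  refine big_of_one hr (by rw [hq]; exact two_le hr hf) D (K' := {3}) compl4 ?_ (by decide +kernel) (by decide +kernel)
    (by decide +kernel) un4 h2 h1
  intro i hi i' hi'
  exact or4 i (by simpa using hi) i' (by simpa using hi')

end tw

end Cfsg.Agent.H53.HC.ExcRows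
end

-- part: H53/HC/ExcIn
section
/-!
# The inputs for the components of the Levi subgroups of `F₄`, `E₆`, `E₇`, `E₈`, `²E₆`
-/

set_option autoImplicit false
set_option linter.unusedSectionVars false

namespace Cfsg.Agent.H53.HC.ExcRows

open Cfsg.Agent.H53.HC Cfsg.Agent.H35.ExcIdx
open CoxeterSystem Cfsg.Agent.ChevalleyStructure.CoxeterGeom Cfsg.Agent.Tits.Roots Cfsg.Agent.Tits.Core
  Cfsg.Agent.Tits.Exchange Cfsg.Agent.Nodes.Reps Cfsg.Agent.Nodes.BNOf Cfsg.Agent.Nodes.StabComb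
open Cfsg.Agent.LieRecognition.BNCox (cA)

variable {r q l : ℕ} {M : CoxeterMatrix (Fin l)} {A : Fin l → Fin l → ℤ} {h : IsCartan M A} {f : Fin l → ℕ}
  {S : Type*} [Group S] {T : Subgroup S} {n : Fin l → S} {X : (Fin l → ℤ) → Subgroup S}

/-- a node with a simply joined neighbour -/
theorem in_node [Finite S] {J : Set (Fin l)} (D : ExcData r q h f J T n X) (i j : Fin l) (hij : M i j = 3) : In h X {i} := by
  have := D.fin
  obtain ⟨θ, -, -, hθ, -⟩ := H622.Levi.cusp_node D.rgd i j hij rfl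
  exact ⟨θ, hθ⟩

/-- a chain of nodes -/
theorem in_chain [Finite S] {J : Set (Fin l)} (D : ExcData r q h f J T n X) {m : ℕ} (hm : 2 ≤ m) (k : Fin m ↪ Fin l)
    (hk : ∀ i j, M (k i) (k j) = cA m i j) : In h X (Set.range k) := by
  have := D.fin
  obtain ⟨θ, -, -, hθ, -⟩ := H622.Levi.cusp_chain D.rgd hm k hk  ⟨0, by omega⟩ rfl
  exact ⟨θ, hθ⟩

/-- the chain `4, 5, 6, 7` of `E₈` -/
def k8 : Fin 4 ↪ Fin 8 := ⟨![4, 5, 6, 7], by decide⟩
/-- the chain `4, 5, 6` of `E₇` -/
def k7 : Fin 3 ↪ Fin 7 := ⟨![4, 5, 6], by decide⟩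

theorem range_k8 : Set.range k8 = {4, 5, 6, 7} := by
  ext x
  simp only [Set.mem_range, Set.mem_insert_iff, Set.mem_singleton_iff]
  revert x; decide

theorem range_k7 : Set.range k7 = {4, 5, 6} := by
  ext x
  simp only [Set.mem_range, Set.mem_insert_iff, Set.mem_singleton_iff]
  revert x; decide

/-- the entries of the Coxeter matrices of type `A` -/
def mA (m : ℕ) (i j : Fin m) : ℕ := cA m i j

theorem hk8 : ∀ i j, m8 (k8 i) (k8 j) = mA 4 i j := by decide +kernel
theorem hk7 : ∀ i j, m7 (k7 i) (k7 j) = mA 3 i j := by decide +kernel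

end Cfsg.Agent.H53.HC.ExcRows
end
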